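import Mathlib
import Cfsg.Prelude.Def_LieExceptional
import Cfsg.Prelude.Def_Classical

/-!
# The (B,N)-pair of the orthogonal group of the minus-type quadratic form: definitions
(helper5, for S2549; the layout follows `Cfsg.Agent.Helper5.SuBN.Defs` and `Cfsg.Agent.Helper19.OpBN.Defs`)

`F` a field (any characteristic), `m : ℕ`, `α β : F`.  The quadratic form is
`Qm α β v = ∑ i : Fin m, v (lo i) * v (hi i) + Nf α β (v c1) (v c2)` on `Fin (2 * m + 2) → F`, where
`lo i` is the position `i`, `hi i = Fin.rev (lo i)` the position `2m + 1 - i`, `c1 = m`, `c2 = m + 1` the two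
middle positions and `Nf α β x y = x² + α x y + β y²`.  `OG m α β` is the full isometry group.
The positions are grouped in blocks by `pos`: the two middle positions form one block.
-/

set_option autoImplicit false

namespace Cfsg.Agent.Helper5.OmBN

open Matrix

variable {F : Type*} [Field F] {m : ℕ}

/-! ### positions -/

/-- the position `i` (left outer part) -/
def lo (i : Fin m) : Fin (2 * m + 2) := ⟨i.val, by have := i.2; omega⟩

/-- the mirrored position `2m + 1 - i` (right outer part) -/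
def hi (i : Fin m) : Fin (2 * m + 2) := ⟨2 * m + 1 - i.val, by have := i.2; omega⟩

/-- the first middle position `m` -/
def c1 : Fin (2 * m + 2) := ⟨m, by omega⟩

/-- the second middle position `m + 1` -/
def c2 : Fin (2 * m + 2) := ⟨m + 1, by omega⟩

theorem val_lo (i : Fin m) : (lo i).val = i.val := rfl
theorem val_hi (i : Fin m) : (hi i).val = 2 * m + 1 - i.val := rfl
theorem val_c1 : (c1 : Fin (2 * m + 2)).val = m := rfl
theorem val_c2 : (c2 : Fin (2 * m + 2)).val = m + 1 := rfl

theorem eq_iff_val_eq (x y : Fin (2 * m + 2)) : x = y ↔ x.val = y.val := Fin.ext_iff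

theorem val_rev (r : Fin (2 * m + 2)) : (Fin.rev r).val = 2 * m + 1 - r.val := by
  rw [Fin.val_rev]; omega

theorem rev_lo (i : Fin m) : Fin.rev (lo i) = hi i := by
  apply Fin.ext; rw [val_rev, val_lo, val_hi]

theorem rev_hi (i : Fin m) : Fin.rev (hi i) = lo i := by
  rw [← rev_lo, Fin.rev_rev]

theorem rev_c1 : Fin.rev (c1 : Fin (2 * m + 2)) = c2 := by
  apply Fin.ext; rw [val_rev, val_c1, val_c2]; omega

theorem rev_c2 : Fin.rev (c2 : Fin (2 * m + 2)) = c1 := by
  rw [← rev_c1, Fin.rev_rev]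

theorem c1_ne_c2 : (c1 : Fin (2 * m + 2)) ≠ c2 := by
  intro h
  have := congrArg Fin.val h
  rw [val_c1, val_c2] at this
  omega

theorem lo_ne_hi (i j : Fin m) : lo i ≠ hi j := by
  intro h
  have h1 := congrArg Fin.val h
  rw [val_lo, val_hi] at h1
  have := i.2
  have := j.2
  omega

theorem lo_ne_c1 (i : Fin m) : lo i ≠ c1 := by
  intro h
  have h1 := congrArg Fin.val h
  rw [val_lo, val_c1] at h1
  have := i.2
  omega

theorem lo_ne_c2 (i : Fin m) : lo i ≠ c2 := by
  intro h
  have h1 := congrArg Fin.val h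
  rw [val_lo, val_c2] at h1
  have := i.2
  omega

theorem hi_ne_c1 (i : Fin m) : hi i ≠ c1 := by
  intro h
  have h1 := congrArg Fin.val h
  rw [val_hi, val_c1] at h1
  have := i.2
  omega

theorem hi_ne_c2 (i : Fin m) : hi i ≠ c2 := by
  intro h
  have h1 := congrArg Fin.val h
  rw [val_hi, val_c2] at h1
  have := i.2
  omega

theorem lo_injective : Function.Injective (lo : Fin m → Fin (2 * m + 2)) := by
  intro i j h
  apply Fin.ext
  have := congrArg Fin.val h
  rwa [val_lo, val_lo] at this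

theorem hi_injective : Function.Injective (hi : Fin m → Fin (2 * m + 2)) := by
  intro i j h
  have h1 := congrArg Fin.rev h
  rw [rev_hi, rev_hi] at h1
  exact lo_injective h1

/-- every position is `lo i`, `hi i`, `c1` or `c2` -/
theorem pos_cases (r : Fin (2 * m + 2)) :
    (∃ i : Fin m, r = lo i) ∨ (∃ i : Fin m, r = hi i) ∨ r = c1 ∨ r = c2 := by
  have hr := r.2
  by_cases h1 : r.val < m
  · exact Or.inl ⟨⟨r.val, h1⟩, Fin.ext rfl⟩
  · by_cases h2 : r.val = m
    · exact Or.inr (Or.inr (Or.inl (Fin.ext h2)))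
    · by_cases h3 : r.val = m + 1
      · exact Or.inr (Or.inr (Or.inr (Fin.ext h3)))
      · refine Or.inr (Or.inl ⟨⟨2 * m + 1 - r.val, by omega⟩, Fin.ext ?_⟩)
        rw [val_hi]
        show r.val = 2 * m + 1 - (2 * m + 1 - r.val)
        omega

/-- a sum over all positions splits into the sums over the two outer parts and the two middle terms -/
theorem sum_split {M : Type*} [AddCommMonoid M] (f : Fin (2 * m + 2) → M) :
    ∑ r, f r = ∑ i : Fin m, (f (lo i) + f (hi i)) + (f c1 + f c2) := by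
  classical
  rw [Finset.sum_add_distrib]
  have h1 : ∑ i : Fin m, f (lo i) = ∑ r ∈ Finset.univ.image (lo : Fin m → Fin (2 * m + 2)), f r := by
    rw [Finset.sum_image (fun i _ j _ h => lo_injective h)]
  have h2 : ∑ i : Fin m, f (hi i) = ∑ r ∈ Finset.univ.image (hi : Fin m → Fin (2 * m + 2)), f r := by
    rw [Finset.sum_image (fun i _ j _ h => hi_injective h)]
  have h3 : f c1 + f c2 = ∑ r ∈ ({c1, c2} : Finset (Fin (2 * m + 2))), f r := by
    rw [Finset.sum_pair c1_ne_c2]
  rw [h1, h2, h3, ← Finset.sum_union, ← Finset.sum_union]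
  · apply Finset.sum_congr _ (fun _ _ => rfl)
    ext r
    simp only [Finset.mem_univ, Finset.mem_union, Finset.mem_image, true_and, true_iff,
      Finset.mem_insert, Finset.mem_singleton]
    rcases pos_cases r with ⟨i, rfl⟩ | ⟨i, rfl⟩ | h | h
    · exact Or.inl (Or.inl ⟨i, rfl⟩)
    · exact Or.inl (Or.inr ⟨i, rfl⟩)
    · exact Or.inr (Or.inl h)
    · exact Or.inr (Or.inr h)
  · rw [Finset.disjoint_left]
    intro r ha hb
    rw [Finset.mem_insert, Finset.mem_singleton] at hb
    rcases Finset.mem_union.1 ha with ha | ha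
    · obtain ⟨i, -, rfl⟩ := Finset.mem_image.1 ha
      rcases hb with hb | hb
      · exact lo_ne_c1 i hb
      · exact lo_ne_c2 i hb
    · obtain ⟨i, -, rfl⟩ := Finset.mem_image.1 ha
      rcases hb with hb | hb
      · exact hi_ne_c1 i hb
      · exact hi_ne_c2 i hb
  · rw [Finset.disjoint_left]
    intro r ha hb
    obtain ⟨i, -, rfl⟩ := Finset.mem_image.1 ha
    obtain ⟨j, -, hj⟩ := Finset.mem_image.1 hb
    exact lo_ne_hi i j hj.symm

/-- the block of a position: the two middle positions form one block -/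
def pos (r : Fin (2 * m + 2)) : ℕ :=
  if r.val < m then r.val else if r.val ≤ m + 1 then m else r.val - 1

theorem pos_c1 : pos (c1 : Fin (2 * m + 2)) = m := by
  unfold pos; rw [val_c1]; simp

theorem pos_c2 : pos (c2 : Fin (2 * m + 2)) = m := by
  unfold pos; rw [val_c2]; simp

theorem pos_lo (i : Fin m) : pos (lo i) = i.val := by
  unfold pos; rw [val_lo, if_pos i.2]

theorem pos_hi (i : Fin m) : pos (hi i) = 2 * m - i.val := by
  have := i.2
  unfold pos; rw [val_hi]
  split_ifs <;> omega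

theorem pos_eq_m_iff (r : Fin (2 * m + 2)) : pos r = m ↔ r = c1 ∨ r = c2 := by
  have hr := r.2
  rw [eq_iff_val_eq, eq_iff_val_eq, val_c1, val_c2]
  unfold pos
  split_ifs <;> omega

/-- two positions in the same block, one of them outside the middle, are equal -/
theorem eq_of_pos_eq (r s : Fin (2 * m + 2)) (h : pos r = pos s) (h1 : s ≠ c1) (h2 : s ≠ c2) :
    r = s := by
  have hr := r.2
  have hs := s.2
  rw [Ne, eq_iff_val_eq, val_c1] at h1
  rw [Ne, eq_iff_val_eq, val_c2] at h2
  rw [eq_iff_val_eq]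
  unfold pos at h
  split_ifs at h <;> omega

theorem pos_lt_iff_of_lt (r s : Fin (2 * m + 2)) (hs : s.val < m) : pos s < pos r ↔ s < r := by
  have hr := r.2
  rw [Fin.lt_def]
  unfold pos
  split_ifs <;> omega

theorem pos_rev_lt_iff (r s : Fin (2 * m + 2)) : pos (Fin.rev r) < pos (Fin.rev s) ↔ pos s < pos r := by
  have hr := r.2
  have hs := s.2
  unfold pos
  rw [val_rev, val_rev]
  split_ifs <;> omega

/-! ### the forms -/

/-- the binary form `x² + α x y + β y²` -/
def Nf (α β x y : F) : F := x ^ 2 + α * x * y + β * y ^ 2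

/-- the polar form of `Nf` -/
def Nb (α β x y x' y' : F) : F := 2 * x * x' + α * (x * y' + y * x') + 2 * β * y * y'

theorem Nf_add (α β x y x' y' : F) :
    Nf α β (x + x') (y + y') = Nf α β x y + Nf α β x' y' + Nb α β x y x' y' := by
  unfold Nf Nb; ring

/-- the minus-type quadratic form -/
def Qm (α β : F) (v : Fin (2 * m + 2) → F) : F :=
  ∑ i : Fin m, v (lo i) * v (hi i) + Nf α β (v c1) (v c2)

/-- its polar form -/
def Bm (α β : F) (u v : Fin (2 * m + 2) → F) : F :=
  ∑ i : Fin m, (u (lo i) * v (hi i) + u (hi i) * v (lo i)) + Nb α β (u c1) (u c2) (v c1) (v c2)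

theorem Qm_add (α β : F) (u v : Fin (2 * m + 2) → F) :
    Qm α β (u + v) = Qm α β u + Qm α β v + Bm α β u v := by
  unfold Qm Bm
  simp only [Pi.add_apply]
  rw [Nf_add]
  have : ∑ i : Fin m, (u (lo i) + v (lo i)) * (u (hi i) + v (hi i)) =
      ∑ i : Fin m, u (lo i) * u (hi i) + ∑ i : Fin m, v (lo i) * v (hi i) +
        ∑ i : Fin m, (u (lo i) * v (hi i) + u (hi i) * v (lo i)) := by
    rw [← Finset.sum_add_distrib, ← Finset.sum_add_distrib]
    apply Finset.sum_congr rfl
    intro i _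
    ring
  rw [this]
  ring

theorem Bm_comm (α β : F) (u v : Fin (2 * m + 2) → F) : Bm α β u v = Bm α β v u := by
  unfold Bm Nb
  have : ∑ i : Fin m, (u (lo i) * v (hi i) + u (hi i) * v (lo i)) =
      ∑ i : Fin m, (v (lo i) * u (hi i) + v (hi i) * u (lo i)) := by
    apply Finset.sum_congr rfl
    intro i _
    ring
  rw [this]
  ring

/-- the full isometry group of `Qm α β` -/
abbrev OG (m : ℕ) {F : Type*} [Field F] (α β : F) :=
  ↥(Cfsg.isometryGroup F (Qm (m := m) α β))

variable {α β : F}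

/-- the matrix of an element -/
abbrev mat (g : OG m α β) : Matrix (Fin (2 * m + 2)) (Fin (2 * m + 2)) F :=
  ((g.1 : GL (Fin (2 * m + 2)) F) : Matrix _ _ F)

theorem mat_mul (g h : OG m α β) : mat (g * h) = mat g * mat h := rfl

theorem mat_one : mat (1 : OG m α β) = 1 := rfl

theorem mat_injective :
    Function.Injective (mat : OG m α β → Matrix (Fin (2 * m + 2)) (Fin (2 * m + 2)) F) :=
  fun _ _ h => Subtype.ext (Units.ext h)

theorem inv_mul_mat (g : OG m α β) : mat g⁻¹ * mat g = 1 := by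
  rw [← mat_mul, inv_mul_cancel, mat_one]

theorem mul_inv_mat (g : OG m α β) : mat g * mat g⁻¹ = 1 := by
  rw [← mat_mul, mul_inv_cancel, mat_one]

theorem mat_inv_eq (g : OG m α β) : mat g⁻¹ = (mat g)⁻¹ := by
  rw [Matrix.inv_eq_left_inv (inv_mul_mat g)]

theorem isUnit_det_mat (g : OG m α β) : IsUnit (mat g).det := by
  have h := congrArg Matrix.det (mul_inv_mat g)
  rw [Matrix.det_mul, Matrix.det_one] at h
  exact IsUnit.of_mul_eq_one _ h

theorem Qm_mulVec (g : OG m α β) (v : Fin (2 * m + 2) → F) : Qm α β (mat g *ᵥ v) = Qm α β v :=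
  g.2 v v

theorem Bm_mulVec (g : OG m α β) (u v : Fin (2 * m + 2) → F) :
    Bm α β (mat g *ᵥ u) (mat g *ᵥ v) = Bm α β u v := by
  have h := Qm_mulVec g (u + v)
  rw [Matrix.mulVec_add, Qm_add, Qm_add, Qm_mulVec, Qm_mulVec] at h
  exact add_left_cancel h

/-! ### the matrix conditions -/

/-- the value of the quadratic form on the `s`-th basis vector -/
def qd (β : F) (s : Fin (2 * m + 2)) : F := if s = c1 then 1 else if s = c2 then β else 0

/-- the Gram matrix of the polar form -/
def Jm (α β : F) (r s : Fin (2 * m + 2)) : F :=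
  if r = c1 then (if s = c1 then 2 else if s = c2 then α else 0)
  else if r = c2 then (if s = c1 then α else if s = c2 then 2 * β else 0)
  else if s = Fin.rev r then 1 else 0

theorem Qm_single (s : Fin (2 * m + 2)) : Qm α β (Pi.single s (1 : F)) = qd β s := by
  unfold Qm qd Nf
  have h0 : ∑ i : Fin m, (Pi.single s (1 : F) : Fin (2 * m + 2) → F) (lo i) *
      (Pi.single s (1 : F) : Fin (2 * m + 2) → F) (hi i) = 0 := by
    apply Finset.sum_eq_zero
    intro i _
    by_cases h : lo i = s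
    · have h2 : hi i ≠ s := fun h' => lo_ne_hi i i (h.trans h'.symm)
      rw [Pi.single_eq_of_ne h2, mul_zero]
    · rw [Pi.single_eq_of_ne h, zero_mul]
  rw [h0, zero_add]
  by_cases h1 : s = c1
  · subst h1
    rw [if_pos rfl, Pi.single_eq_same, Pi.single_eq_of_ne c1_ne_c2.symm]
    ring
  · rw [if_neg h1, Pi.single_eq_of_ne (fun h => h1 h.symm)]
    by_cases h2 : s = c2
    · subst h2
      rw [if_pos rfl, Pi.single_eq_same]
      ring
    · rw [if_neg h2, Pi.single_eq_of_ne (fun h => h2 h.symm)]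
      ring

theorem Bm_single_single (r s : Fin (2 * m + 2)) :
    Bm α β (Pi.single r (1 : F)) (Pi.single s 1) = Jm α β r s := by
  classical
  unfold Bm Jm Nb
  rcases pos_cases r with ⟨i, rfl⟩ | ⟨i, rfl⟩ | rfl | rfl
  · rw [if_neg (lo_ne_c1 i), if_neg (lo_ne_c2 i), Pi.single_eq_of_ne (lo_ne_c1 i).symm,
      Pi.single_eq_of_ne (lo_ne_c2 i).symm, rev_lo]
    have : ∑ j : Fin m, ((Pi.single (lo i) (1 : F) : Fin (2 * m + 2) → F) (lo j) *
        (Pi.single s (1 : F) : Fin (2 * m + 2) → F) (hi j) +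
        (Pi.single (lo i) (1 : F) : Fin (2 * m + 2) → F) (hi j) *
        (Pi.single s (1 : F) : Fin (2 * m + 2) → F) (lo j)) =
        (Pi.single s (1 : F) : Fin (2 * m + 2) → F) (hi i) := by
      rw [Finset.sum_eq_single i]
      · rw [Pi.single_eq_same, Pi.single_eq_of_ne (lo_ne_hi i i).symm]
        ring
      · intro j _ hj
        rw [Pi.single_eq_of_ne (fun h => hj (lo_injective h)),
          Pi.single_eq_of_ne (lo_ne_hi i j).symm]
        ring
      · intro h; exact absurd (Finset.mem_univ _) h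
    rw [this]
    by_cases hs : s = hi i
    · rw [if_pos hs, hs, Pi.single_eq_same]; ring
    · rw [if_neg hs, Pi.single_eq_of_ne (fun h => hs h.symm)]; ring
  · rw [if_neg (hi_ne_c1 i), if_neg (hi_ne_c2 i), Pi.single_eq_of_ne (hi_ne_c1 i).symm,
      Pi.single_eq_of_ne (hi_ne_c2 i).symm, rev_hi]
    have : ∑ j : Fin m, ((Pi.single (hi i) (1 : F) : Fin (2 * m + 2) → F) (lo j) *
        (Pi.single s (1 : F) : Fin (2 * m + 2) → F) (hi j) +
        (Pi.single (hi i) (1 : F) : Fin (2 * m + 2) → F) (hi j) *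
        (Pi.single s (1 : F) : Fin (2 * m + 2) → F) (lo j)) =
        (Pi.single s (1 : F) : Fin (2 * m + 2) → F) (lo i) := by
      rw [Finset.sum_eq_single i]
      · rw [Pi.single_eq_same, Pi.single_eq_of_ne (lo_ne_hi i i)]
        ring
      · intro j _ hj
        rw [Pi.single_eq_of_ne (fun h => hj (hi_injective h)),
          Pi.single_eq_of_ne (lo_ne_hi j i)]
        ring
      · intro h; exact absurd (Finset.mem_univ _) h
    rw [this]
    by_cases hs : s = lo i
    · rw [if_pos hs, hs, Pi.single_eq_same]; ring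
    · rw [if_neg hs, Pi.single_eq_of_ne (fun h => hs h.symm)]; ring
  · rw [if_pos rfl]
    have : ∑ j : Fin m, ((Pi.single c1 (1 : F) : Fin (2 * m + 2) → F) (lo j) *
        (Pi.single s (1 : F) : Fin (2 * m + 2) → F) (hi j) +
        (Pi.single c1 (1 : F) : Fin (2 * m + 2) → F) (hi j) *
        (Pi.single s (1 : F) : Fin (2 * m + 2) → F) (lo j)) = 0 := by
      apply Finset.sum_eq_zero
      intro j _
      rw [Pi.single_eq_of_ne (lo_ne_c1 j), Pi.single_eq_of_ne (hi_ne_c1 j)]
      ring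
    rw [this, Pi.single_eq_same, Pi.single_eq_of_ne c1_ne_c2.symm]
    by_cases hs1 : s = c1
    · rw [if_pos hs1, hs1, Pi.single_eq_same, Pi.single_eq_of_ne c1_ne_c2.symm]; ring
    · rw [if_neg hs1, Pi.single_eq_of_ne (fun h => hs1 h.symm)]
      by_cases hs2 : s = c2
      · rw [if_pos hs2, hs2, Pi.single_eq_same]; ring
      · rw [if_neg hs2, Pi.single_eq_of_ne (fun h => hs2 h.symm)]; ring
  · rw [if_neg c1_ne_c2.symm, if_pos rfl]
    have : ∑ j : Fin m, ((Pi.single c2 (1 : F) : Fin (2 * m + 2) → F) (lo j) *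
        (Pi.single s (1 : F) : Fin (2 * m + 2) → F) (hi j) +
        (Pi.single c2 (1 : F) : Fin (2 * m + 2) → F) (hi j) *
        (Pi.single s (1 : F) : Fin (2 * m + 2) → F) (lo j)) = 0 := by
      apply Finset.sum_eq_zero
      intro j _
      rw [Pi.single_eq_of_ne (lo_ne_c2 j), Pi.single_eq_of_ne (hi_ne_c2 j)]
      ring
    rw [this, Pi.single_eq_same, Pi.single_eq_of_ne c1_ne_c2]
    by_cases hs1 : s = c1
    · rw [if_pos hs1, hs1, Pi.single_eq_same, Pi.single_eq_of_ne c1_ne_c2.symm]; ring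
    · rw [if_neg hs1, Pi.single_eq_of_ne (fun h => hs1 h.symm)]
      by_cases hs2 : s = c2
      · rw [if_pos hs2, hs2, Pi.single_eq_same]; ring
      · rw [if_neg hs2, Pi.single_eq_of_ne (fun h => hs2 h.symm)]; ring

theorem mulVec_single_one (M : Matrix (Fin (2 * m + 2)) (Fin (2 * m + 2)) F) (s : Fin (2 * m + 2)) :
    M *ᵥ Pi.single s 1 = fun r => M r s := by
  ext r
  simp [Matrix.mulVec_single]

/-- the matrix conditions cutting out the isometry group: the values of the quadratic form on the columns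
and the polar products of the columns are those of the standard basis -/
def IsO (α β : F) (M : Matrix (Fin (2 * m + 2)) (Fin (2 * m + 2)) F) : Prop :=
  (∀ s : Fin (2 * m + 2),
      ∑ i : Fin m, M (lo i) s * M (hi i) s + Nf α β (M c1 s) (M c2 s) = qd β s) ∧
    ∀ r s : Fin (2 * m + 2),
      ∑ i : Fin m, (M (lo i) r * M (hi i) s + M (hi i) r * M (lo i) s) +
        Nb α β (M c1 r) (M c2 r) (M c1 s) (M c2 s) = Jm α β r s

theorem isO_iff (M : Matrix (Fin (2 * m + 2)) (Fin (2 * m + 2)) F) :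
    IsO α β M ↔ (∀ s : Fin (2 * m + 2), Qm α β (fun i => M i s) = qd β s) ∧
      ∀ r s : Fin (2 * m + 2), Bm α β (fun i => M i r) (fun i => M i s) = Jm α β r s := Iff.rfl

/-- the value of the quadratic form on the columns of an isometry -/
theorem q_col (g : OG m α β) (s : Fin (2 * m + 2)) :
    ∑ i : Fin m, mat g (lo i) s * mat g (hi i) s + Nf α β (mat g c1 s) (mat g c2 s) = qd β s := by
  have h : Qm α β (fun i => mat g i s) = qd β s := by
    rw [← mulVec_single_one, Qm_mulVec, Qm_single]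
  exact h

/-- the polar products of the columns of an isometry -/
theorem rel_col (g : OG m α β) (r s : Fin (2 * m + 2)) :
    ∑ i : Fin m, (mat g (lo i) r * mat g (hi i) s + mat g (hi i) r * mat g (lo i) s) +
      Nb α β (mat g c1 r) (mat g c2 r) (mat g c1 s) (mat g c2 s) = Jm α β r s := by
  have h : Bm α β (fun i => mat g i r) (fun i => mat g i s) = Jm α β r s := by
    rw [← mulVec_single_one, ← mulVec_single_one, Bm_mulVec, Bm_single_single]
  exact h

theorem isO_mat (g : OG m α β) : IsO α β (mat g) := ⟨q_col g, rel_col g⟩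

/-- an alternating matrix gives the zero quadratic form (any characteristic) -/
theorem sum_alt_eq_zero {ι : Type*} [Fintype ι] [DecidableEq ι] (v : ι → F) (D : ι → ι → F)
    (h0 : ∀ b, D b b = 0) (h1 : ∀ b c, D b c + D c b = 0) :
    ∑ b, ∑ c, v b * v c * D b c = 0 := by
  rw [← Finset.sum_product']
  apply Finset.sum_involution (fun x _ => (x.2, x.1))
  · rintro ⟨b, c⟩ _
    show v b * v c * D b c + v c * v b * D c b = 0
    have := h1 b c
    linear_combination (v b * v c) * this
  · rintro ⟨b, c⟩ _ hne heq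
    apply hne
    have hbc : c = b := congrArg Prod.fst heq
    subst hbc
    show v c * v c * D c c = 0
    rw [h0, mul_zero]
  · intro x _
    exact Finset.mem_univ _
  · rintro ⟨b, c⟩ _
    rfl

/-- the bilinear (non symmetric) form whose diagonal is `Qm` -/
def A2 (α β : F) (u v : Fin (2 * m + 2) → F) : F :=
  ∑ i : Fin m, u (lo i) * v (hi i) + (u c1 * v c1 + α * (u c1 * v c2) + β * (u c2 * v c2))

theorem Qm_eq_A2 (v : Fin (2 * m + 2) → F) : Qm α β v = A2 α β v v := by
  unfold Qm A2 Nf; ring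

theorem Bm_eq_A2 (u v : Fin (2 * m + 2) → F) : Bm α β u v = A2 α β u v + A2 α β v u := by
  unfold Bm A2 Nb
  rw [Finset.sum_add_distrib]
  have : ∑ i : Fin m, u (hi i) * v (lo i) = ∑ i : Fin m, v (lo i) * u (hi i) := by
    apply Finset.sum_congr rfl
    intro i _
    ring
  rw [this]
  ring

theorem A2_mulVec (M : Matrix (Fin (2 * m + 2)) (Fin (2 * m + 2)) F) (v : Fin (2 * m + 2) → F) :
    A2 α β (M *ᵥ v) (M *ᵥ v) =
      ∑ r, ∑ s, v r * v s * A2 α β (fun i => M i r) (fun i => M i s) := by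
  have h : ∀ i j : Fin (2 * m + 2), (M *ᵥ v) i * (M *ᵥ v) j =
      ∑ r, ∑ s, v r * v s * (M i r * M j s) := by
    intro i j
    simp only [Matrix.mulVec, dotProduct, Finset.sum_mul, Finset.mul_sum]
    rw [Finset.sum_comm]
    apply Finset.sum_congr rfl
    intro a _
    apply Finset.sum_congr rfl
    intro b _
    ring
  unfold A2
  simp only [h]
  rw [Finset.sum_comm]
  simp only [Finset.mul_sum, ← Finset.sum_add_distrib]
  apply Finset.sum_congr rfl
  intro r _
  rw [Finset.sum_comm]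
  simp only [← Finset.sum_add_distrib]
  apply Finset.sum_congr rfl
  intro s _
  simp only [Finset.mul_sum, mul_add]
  ring_nf

/-- a matrix satisfying the conditions preserves `Qm` -/
theorem Qm_mulVec_of_isO {M : Matrix (Fin (2 * m + 2)) (Fin (2 * m + 2)) F} (hM : IsO α β M)
    (v : Fin (2 * m + 2) → F) : Qm α β (M *ᵥ v) = Qm α β v := by
  classical
  have h1 := A2_mulVec (α := α) (β := β) M v
  have h2 := A2_mulVec (α := α) (β := β) (1 : Matrix (Fin (2 * m + 2)) (Fin (2 * m + 2)) F) v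
  rw [Matrix.one_mulVec] at h2
  rw [Qm_eq_A2, Qm_eq_A2, h1, h2, ← sub_eq_zero, ← Finset.sum_sub_distrib]
  have e0 : ∀ r : Fin (2 * m + 2),
      ∑ s, v r * v s * A2 α β (fun i => M i r) (fun i => M i s) -
        ∑ s, v r * v s * A2 α β (fun i => (1 : Matrix (Fin (2 * m + 2)) (Fin (2 * m + 2)) F) i r)
          (fun i => (1 : Matrix (Fin (2 * m + 2)) (Fin (2 * m + 2)) F) i s) =
      ∑ s, v r * v s * (A2 α β (fun i => M i r) (fun i => M i s) -
        A2 α β (fun i => (1 : Matrix (Fin (2 * m + 2)) (Fin (2 * m + 2)) F) i r)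
          (fun i => (1 : Matrix (Fin (2 * m + 2)) (Fin (2 * m + 2)) F) i s)) := by
    intro r
    rw [← Finset.sum_sub_distrib]
    apply Finset.sum_congr rfl
    intro s _
    rw [mul_sub]
  simp only [e0]
  have hone : ∀ s : Fin (2 * m + 2),
      (fun i => (1 : Matrix (Fin (2 * m + 2)) (Fin (2 * m + 2)) F) i s) = Pi.single s 1 := by
    intro s
    ext i
    rw [Matrix.one_apply, Pi.single_apply]
  apply sum_alt_eq_zero v
  · intro s
    rw [← Qm_eq_A2, ← Qm_eq_A2, ((isO_iff M).1 hM).1 s, hone, Qm_single, sub_self]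
  · intro r s
    have e1 := Bm_eq_A2 (α := α) (β := β) (fun i => M i r) (fun i => M i s)
    have e2 := Bm_eq_A2 (α := α) (β := β)
      (fun i => (1 : Matrix (Fin (2 * m + 2)) (Fin (2 * m + 2)) F) i r)
      (fun i => (1 : Matrix (Fin (2 * m + 2)) (Fin (2 * m + 2)) F) i s)
    rw [((isO_iff M).1 hM).2 r s] at e1
    rw [hone, hone, Bm_single_single] at e2
    rw [hone, hone]
    linear_combination e2 - e1

/-- a matrix satisfying the conditions, with a left inverse, gives an element of the isometry group -/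
theorem exists_of_isO {M M' : Matrix (Fin (2 * m + 2)) (Fin (2 * m + 2)) F} (hM : IsO α β M)
    (h1 : M' * M = 1) : ∃ g : OG m α β, mat g = M := by
  have h2 : M * M' = 1 := mul_eq_one_comm.mp h1
  refine ⟨⟨⟨M, M', h2, h1⟩, ?_⟩, rfl⟩
  intro u _
  exact Qm_mulVec_of_isO hM u


/-! ### the subgroups -/

/-- the full stabiliser of the standard flag: block upper triangular isometries -/
def Bfull (m : ℕ) {F : Type*} [Field F] (α β : F) : Subgroup (OG m α β) where
  carrier := {g | BlockTriangular (mat g) (pos (m := m))}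
  mul_mem' := fun {g h} hg hh => BlockTriangular.mul hg hh
  one_mem' := blockTriangular_one
  inv_mem' := fun {g} hg => by
    show BlockTriangular (mat g⁻¹) pos
    have : Invertible (mat g) := Matrix.invertibleOfIsUnitDet _ (isUnit_det_mat g)
    rw [mat_inv_eq]
    exact blockTriangular_inv_of_blockTriangular hg

theorem mem_Bfull_iff (g : OG m α β) :
    g ∈ Bfull m α β ↔ ∀ r s : Fin (2 * m + 2), pos s < pos r → mat g r s = 0 :=
  ⟨fun h _ _ hrs => h hrs, fun h _ _ hrs => h _ _ hrs⟩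

/-- the middle block of a product of block upper triangular matrices -/
theorem mul_apply_mid (g h : OG m α β) (hg : g ∈ Bfull m α β) (hh : h ∈ Bfull m α β)
    (r s : Fin (2 * m + 2)) (hr : pos r = m) (hs : pos s = m) :
    mat (g * h) r s = mat g r c1 * mat h c1 s + mat g r c2 * mat h c2 s := by
  rw [mat_mul, Matrix.mul_apply]
  apply Finset.sum_eq_add c1 c2 c1_ne_c2
  · intro k _ hk
    by_cases hlt : pos k < m
    · rw [(mem_Bfull_iff g).1 hg r k (by rw [hr]; exact hlt), zero_mul]
    · have hne : pos k ≠ m := fun h' => by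
        rcases (pos_eq_m_iff k).1 h' with h'' | h''
        · exact hk.1 h''
        · exact hk.2 h''
      rw [(mem_Bfull_iff h).1 hh k s (by rw [hs]; omega), mul_zero]
  · intro h'; exact absurd (Finset.mem_univ _) h'
  · intro h'; exact absurd (Finset.mem_univ _) h'

/-- the diagonal entries of a product of block upper triangular matrices, outside the middle -/
theorem mul_apply_diag (g h : OG m α β) (hg : g ∈ Bfull m α β) (hh : h ∈ Bfull m α β)
    (r : Fin (2 * m + 2)) (h1 : r ≠ c1) (h2 : r ≠ c2) :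
    mat (g * h) r r = mat g r r * mat h r r := by
  rw [mat_mul, Matrix.mul_apply]
  apply Finset.sum_eq_single r
  · intro k _ hk
    have hne : pos k ≠ pos r := fun h' => hk (eq_of_pos_eq k r h' h1 h2)
    rcases lt_or_gt_of_ne hne with hlt | hgt
    · rw [(mem_Bfull_iff g).1 hg r k hlt, zero_mul]
    · rw [(mem_Bfull_iff h).1 hh k r hgt, mul_zero]
  · intro h'; exact absurd (Finset.mem_univ _) h'

/-- the middle block is a "rotation": the matrix of the multiplication by `x + y θ`, `θ² = α θ - β` -/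
def RotM (g : OG m α β) : Prop :=
  mat g c1 c2 = -β * mat g c2 c1 ∧ mat g c2 c2 = mat g c1 c1 + α * mat g c2 c1

theorem rot_inv_aux (α β x y c00 c01 c10 c11 : F) (e1 : c00 * x + c01 * y = 1)
    (e2 : c00 * (-β * y) + c01 * (x + α * y) = 0) (e3 : c10 * x + c11 * y = 0)
    (e4 : c10 * (-β * y) + c11 * (x + α * y) = 1) :
    c01 = -β * c10 ∧ c11 = c00 + α * c10 := by
  have hN1 : (x ^ 2 + α * x * y + β * y ^ 2) * c01 = β * y := by
    linear_combination (β * y) * e1 + x * e2
  have hN2 : (x ^ 2 + α * x * y + β * y ^ 2) * c10 = -y := by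
    linear_combination (x + α * y) * e3 - y * e4
  have hN3 : (x ^ 2 + α * x * y + β * y ^ 2) * c00 = x + α * y := by
    linear_combination (x + α * y) * e1 - y * e2
  have hN4 : (x ^ 2 + α * x * y + β * y ^ 2) * c11 = x := by
    linear_combination x * e4 + (β * y) * e3
  have hN : x ^ 2 + α * x * y + β * y ^ 2 ≠ 0 := by
    intro h0
    rw [h0, zero_mul] at hN2 hN4
    have hy : y = 0 := by linear_combination hN2
    have hx : x = 0 := hN4.symm
    rw [hx, hy] at e1
    simp at e1
  constructor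
  · apply mul_left_cancel₀ hN
    linear_combination hN1 + β * hN2
  · apply mul_left_cancel₀ hN
    linear_combination hN4 - hN3 - α * hN2

/-- the Borel subgroup: block upper triangular isometries whose middle block is a rotation -/
def Bsub (m : ℕ) {F : Type*} [Field F] (α β : F) : Subgroup (OG m α β) where
  carrier := {g | g ∈ Bfull m α β ∧ RotM g}
  mul_mem' := by
    rintro g h ⟨hg, hg1, hg2⟩ ⟨hh, hh1, hh2⟩
    refine ⟨(Bfull m α β).mul_mem hg hh, ?_, ?_⟩
    · rw [mul_apply_mid g h hg hh c1 c2 pos_c1 pos_c2, mul_apply_mid g h hg hh c2 c1 pos_c2 pos_c1,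
        hg1, hg2, hh1, hh2]
      ring
    · rw [mul_apply_mid g h hg hh c2 c2 pos_c2 pos_c2, mul_apply_mid g h hg hh c1 c1 pos_c1 pos_c1,
        mul_apply_mid g h hg hh c2 c1 pos_c2 pos_c1, hg1, hg2, hh1, hh2]
      ring
  one_mem' := by
    refine ⟨(Bfull m α β).one_mem, ?_, ?_⟩
    · rw [mat_one, Matrix.one_apply_ne c1_ne_c2, Matrix.one_apply_ne c1_ne_c2.symm, mul_zero]
    · rw [mat_one, Matrix.one_apply_eq, Matrix.one_apply_eq, Matrix.one_apply_ne c1_ne_c2.symm,
        mul_zero, add_zero]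
  inv_mem' := by
    rintro g ⟨hg, hg1, hg2⟩
    have hi : g⁻¹ ∈ Bfull m α β := (Bfull m α β).inv_mem hg
    refine ⟨hi, ?_⟩
    have e : ∀ r s : Fin (2 * m + 2), pos r = m → pos s = m →
        mat g⁻¹ r c1 * mat g c1 s + mat g⁻¹ r c2 * mat g c2 s = (1 : Matrix _ _ F) r s := by
      intro r s hr hs
      rw [← mul_apply_mid g⁻¹ g hi hg r s hr hs, inv_mul_cancel, mat_one]
    have e1 := e c1 c1 pos_c1 pos_c1
    have e2 := e c1 c2 pos_c1 pos_c2
    have e3 := e c2 c1 pos_c2 pos_c1
    have e4 := e c2 c2 pos_c2 pos_c2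
    rw [Matrix.one_apply_eq] at e1 e4
    rw [Matrix.one_apply_ne c1_ne_c2] at e2
    rw [Matrix.one_apply_ne c1_ne_c2.symm] at e3
    rw [hg1, hg2] at e2 e4
    exact rot_inv_aux α β (mat g c1 c1) (mat g c2 c1) _ _ _ _ e1 e2 e3 e4

theorem mem_Bsub_iff (g : OG m α β) :
    g ∈ Bsub m α β ↔ (∀ r s : Fin (2 * m + 2), pos s < pos r → mat g r s = 0) ∧ RotM g := by
  rw [← mem_Bfull_iff]
  exact Iff.rfl

theorem Bsub_le_Bfull : Bsub m α β ≤ Bfull m α β := fun _ hg => hg.1

/-- block diagonal isometries -/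
def Tfull (m : ℕ) {F : Type*} [Field F] (α β : F) : Subgroup (OG m α β) where
  carrier := {g | BlockTriangular (mat g) (pos (m := m)) ∧
    BlockTriangular (mat g) (fun r => OrderDual.toDual (pos (m := m) r))}
  mul_mem' := fun {g h} hg hh => ⟨BlockTriangular.mul hg.1 hh.1, BlockTriangular.mul hg.2 hh.2⟩
  one_mem' := ⟨blockTriangular_one, blockTriangular_one⟩
  inv_mem' := fun {g} hg => by
    have : Invertible (mat g) := Matrix.invertibleOfIsUnitDet _ (isUnit_det_mat g)
    constructor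
    · show BlockTriangular (mat g⁻¹) pos
      rw [mat_inv_eq]
      exact blockTriangular_inv_of_blockTriangular hg.1
    · show BlockTriangular (mat g⁻¹) (fun r => OrderDual.toDual (pos (m := m) r))
      rw [mat_inv_eq]
      exact blockTriangular_inv_of_blockTriangular hg.2

theorem mem_Tfull_iff (g : OG m α β) :
    g ∈ Tfull m α β ↔ ∀ r s : Fin (2 * m + 2), pos r ≠ pos s → mat g r s = 0 := by
  constructor
  · intro h r s hrs
    rcases lt_or_gt_of_ne hrs with hlt | hgt
    · exact h.2 (show OrderDual.toDual (pos s) < OrderDual.toDual (pos r) from hlt)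
    · exact h.1 hgt
  · intro h
    exact ⟨fun r s hrs => h r s (ne_of_gt hrs), fun r s hrs => h r s (ne_of_lt hrs)⟩

theorem Tfull_le_Bfull : Tfull m α β ≤ Bfull m α β := fun _ hg => hg.1

/-- the torus: block diagonal isometries whose middle block is a rotation -/
def Tsub (m : ℕ) {F : Type*} [Field F] (α β : F) : Subgroup (OG m α β) := Tfull m α β ⊓ Bsub m α β

theorem mem_Tsub_iff (g : OG m α β) :
    g ∈ Tsub m α β ↔ (∀ r s : Fin (2 * m + 2), pos r ≠ pos s → mat g r s = 0) ∧ RotM g := by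
  unfold Tsub
  rw [Subgroup.mem_inf, mem_Tfull_iff]
  constructor
  · rintro ⟨h1, h2⟩
    exact ⟨h1, h2.2⟩
  · rintro ⟨h1, h2⟩
    exact ⟨h1, Tfull_le_Bfull ((mem_Tfull_iff g).2 h1), h2⟩

theorem Tsub_le_Bsub : Tsub m α β ≤ Bsub m α β := inf_le_right

theorem Tsub_le_Tfull : Tsub m α β ≤ Tfull m α β := inf_le_left

/-- the unipotent radical: block upper unitriangular isometries with identity diagonal blocks -/
def Usub (m : ℕ) {F : Type*} [Field F] (α β : F) : Subgroup (OG m α β) where
  carrier := {g | g ∈ Bfull m α β ∧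
    ∀ r s : Fin (2 * m + 2), pos r = pos s → mat g r s = if r = s then 1 else 0}
  mul_mem' := by
    rintro g h ⟨hg, hg1⟩ ⟨hh, hh1⟩
    refine ⟨(Bfull m α β).mul_mem hg hh, fun r s hrs => ?_⟩
    rw [mat_mul, Matrix.mul_apply, Finset.sum_eq_single r]
    · rw [hg1 r r rfl, if_pos rfl, one_mul, hh1 r s hrs]
    · intro k _ hk
      by_cases hpk : pos k = pos r
      · rw [hg1 r k hpk.symm, if_neg (fun h' => hk h'.symm), zero_mul]
      · rcases lt_or_gt_of_ne hpk with hlt | hgt
        · rw [(mem_Bfull_iff g).1 hg r k hlt, zero_mul]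
        · rw [(mem_Bfull_iff h).1 hh k s (by rw [← hrs]; exact hgt), mul_zero]
    · intro h'; exact absurd (Finset.mem_univ _) h'
  one_mem' := by
    refine ⟨(Bfull m α β).one_mem, fun r s _ => ?_⟩
    rw [mat_one, Matrix.one_apply]
  inv_mem' := by
    rintro g ⟨hg, hg1⟩
    have hi : g⁻¹ ∈ Bfull m α β := (Bfull m α β).inv_mem hg
    refine ⟨hi, fun r s hrs => ?_⟩
    have e : (mat g⁻¹ * mat g) r s = mat g⁻¹ r s := by
      rw [Matrix.mul_apply, Finset.sum_eq_single s]
      · rw [hg1 s s rfl, if_pos rfl, mul_one]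
      · intro k _ hk
        by_cases hpk : pos k = pos s
        · rw [hg1 k s hpk, if_neg hk, mul_zero]
        · rcases lt_or_gt_of_ne hpk with hlt | hgt
          · rw [(mem_Bfull_iff g⁻¹).1 hi r k (by rw [hrs]; exact hlt), zero_mul]
          · rw [(mem_Bfull_iff g).1 hg k s hgt, mul_zero]
      · intro h'; exact absurd (Finset.mem_univ _) h'
    rw [← e, inv_mul_mat, Matrix.one_apply]

theorem mem_Usub_iff (g : OG m α β) :
    g ∈ Usub m α β ↔ (∀ r s : Fin (2 * m + 2), pos s < pos r → mat g r s = 0) ∧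
      ∀ r s : Fin (2 * m + 2), pos r = pos s → mat g r s = if r = s then 1 else 0 := by
  rw [← mem_Bfull_iff]
  exact Iff.rfl

theorem Usub_le_Bsub : Usub m α β ≤ Bsub m α β := by
  intro g hg
  refine ⟨hg.1, ?_, ?_⟩
  · rw [hg.2 c1 c2 (by rw [pos_c1, pos_c2]), if_neg c1_ne_c2,
      hg.2 c2 c1 (by rw [pos_c1, pos_c2]), if_neg c1_ne_c2.symm, mul_zero]
  · rw [hg.2 c2 c2 rfl, hg.2 c1 c1 rfl, hg.2 c2 c1 (by rw [pos_c1, pos_c2]),
      if_neg c1_ne_c2.symm, if_pos rfl, if_pos rfl, mul_zero, add_zero]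

/-! ### block monomial isometries -/

/-- a permutation fixing the two middle positions preserves "being in the same block" -/
theorem pos_perm_congr (π : Equiv.Perm (Fin (2 * m + 2))) (h1 : π c1 = c1) (h2 : π c2 = c2)
    (k t : Fin (2 * m + 2)) (h : pos k = pos t) : pos (π k) = pos (π t) := by
  by_cases ht : t = c1 ∨ t = c2
  · have hk : k = c1 ∨ k = c2 := by
      rw [← pos_eq_m_iff, h, pos_eq_m_iff]
      exact ht
    have e1 : pos (π k) = m := by
      rcases hk with hk | hk
      · rw [hk, h1, pos_c1]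
      · rw [hk, h2, pos_c2]
    have e2 : pos (π t) = m := by
      rcases ht with ht | ht
      · rw [ht, h1, pos_c1]
      · rw [ht, h2, pos_c2]
    rw [e1, e2]
  · rw [not_or] at ht
    rw [eq_of_pos_eq k t h ht.1 ht.2]

theorem mono_mul_aux (A B : Matrix (Fin (2 * m + 2)) (Fin (2 * m + 2)) F)
    (π ρ : Equiv.Perm (Fin (2 * m + 2))) (h1 : π c1 = c1) (h2 : π c2 = c2)
    (hA : ∀ r s : Fin (2 * m + 2), pos r ≠ pos (π s) → A r s = 0)
    (hB : ∀ r s : Fin (2 * m + 2), pos r ≠ pos (ρ s) → B r s = 0)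
    (r s : Fin (2 * m + 2)) (hrs : pos r ≠ pos (π (ρ s))) : (A * B) r s = 0 := by
  rw [Matrix.mul_apply]
  apply Finset.sum_eq_zero
  intro k _
  by_cases hk : pos k = pos (ρ s)
  · rw [hA r k (by rw [pos_perm_congr π h1 h2 k (ρ s) hk]; exact hrs), zero_mul]
  · rw [hB k s hk, mul_zero]

/-- the block monomial isometries: column `s` is supported in the block of `π s`, for a permutation `π`
fixing the two middle positions (and the same for the inverse matrix and `π⁻¹`) -/
def Mono1 (m : ℕ) {F : Type*} [Field F] (α β : F) : Subgroup (OG m α β) where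
  carrier := {g | ∃ π : Equiv.Perm (Fin (2 * m + 2)), π c1 = c1 ∧ π c2 = c2 ∧
    (∀ r s : Fin (2 * m + 2), pos r ≠ pos (π s) → mat g r s = 0) ∧
    ∀ r s : Fin (2 * m + 2), pos r ≠ pos (π⁻¹ s) → mat g⁻¹ r s = 0}
  mul_mem' := by
    rintro g h ⟨π, hπ1, hπ2, hπ, hπ'⟩ ⟨ρ, hρ1, hρ2, hρ, hρ'⟩
    have hπi1 : π⁻¹ c1 = c1 := by rw [Equiv.Perm.inv_eq_iff_eq, hπ1]
    have hπi2 : π⁻¹ c2 = c2 := by rw [Equiv.Perm.inv_eq_iff_eq, hπ2]
    have hρi1 : ρ⁻¹ c1 = c1 := by rw [Equiv.Perm.inv_eq_iff_eq, hρ1]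
    have hρi2 : ρ⁻¹ c2 = c2 := by rw [Equiv.Perm.inv_eq_iff_eq, hρ2]
    refine ⟨π * ρ, by rw [Equiv.Perm.mul_apply, hρ1, hπ1], by rw [Equiv.Perm.mul_apply, hρ2, hπ2],
      fun r s hrs => ?_, fun r s hrs => ?_⟩
    · rw [mat_mul]
      exact mono_mul_aux _ _ π ρ hπ1 hπ2 hπ hρ r s hrs
    · rw [_root_.mul_inv_rev, mat_mul]
      apply mono_mul_aux _ _ ρ⁻¹ π⁻¹ hρi1 hρi2 hρ' hπ' r s
      rw [_root_.mul_inv_rev] at hrs
      exact hrs
  one_mem' := ⟨1, rfl, rfl, fun r s hrs => Matrix.one_apply_ne (fun h => hrs (by rw [h]; rfl)),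
    fun r s hrs => by
      rw [inv_one, mat_one]
      exact Matrix.one_apply_ne (fun h => hrs (by rw [h]; rfl))⟩
  inv_mem' := by
    rintro g ⟨π, hπ1, hπ2, hπ, hπ'⟩
    refine ⟨π⁻¹, by rw [Equiv.Perm.inv_eq_iff_eq, hπ1], by rw [Equiv.Perm.inv_eq_iff_eq, hπ2],
      hπ', ?_⟩
    rw [inv_inv, inv_inv]
    exact hπ

theorem mem_Mono1_iff (g : OG m α β) :
    g ∈ Mono1 m α β ↔ ∃ π : Equiv.Perm (Fin (2 * m + 2)), π c1 = c1 ∧ π c2 = c2 ∧
      (∀ r s : Fin (2 * m + 2), pos r ≠ pos (π s) → mat g r s = 0) ∧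
      ∀ r s : Fin (2 * m + 2), pos r ≠ pos (π⁻¹ s) → mat g⁻¹ r s = 0 := Iff.rfl

theorem Tfull_le_Mono1 : Tfull m α β ≤ Mono1 m α β := by
  intro g hg
  refine ⟨1, rfl, rfl, fun r s hrs => (mem_Tfull_iff g).1 hg r s hrs, fun r s hrs => ?_⟩
  rw [inv_one] at hrs
  exact (mem_Tfull_iff g⁻¹).1 ((Tfull m α β).inv_mem hg) r s hrs

theorem Tsub_le_Mono1 : Tsub m α β ≤ Mono1 m α β := Tsub_le_Tfull.trans Tfull_le_Mono1

/-! ### permutation matrices, root elements, reflections -/

/-- the permutation matrix of `π`: `e_j ↦ e_{π j}` -/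
def pMat (π : Equiv.Perm (Fin (2 * m + 2))) : Matrix (Fin (2 * m + 2)) (Fin (2 * m + 2)) F :=
  Matrix.of fun i j => if i = π j then 1 else 0

theorem pMat_apply (π : Equiv.Perm (Fin (2 * m + 2))) (i j : Fin (2 * m + 2)) :
    (pMat π : Matrix _ _ F) i j = if i = π j then 1 else 0 := rfl

theorem pMat_mul (π ρ : Equiv.Perm (Fin (2 * m + 2))) :
    (pMat π : Matrix _ _ F) * pMat ρ = pMat (π * ρ) := by
  ext i j
  rw [Matrix.mul_apply, pMat_apply]
  simp only [pMat_apply]
  rw [Finset.sum_eq_single (ρ j)]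
  · rw [if_pos rfl, mul_one]
    rfl
  · intro b _ hb
    rw [if_neg hb, mul_zero]
  · intro hh; exact absurd (Finset.mem_univ _) hh

theorem pMat_one : (pMat (1 : Equiv.Perm (Fin (2 * m + 2))) : Matrix _ _ F) = 1 := by
  ext i j
  rw [pMat_apply, Matrix.one_apply]
  rfl

/-- the root element `x_{ab}(t) = 1 + t E(a,b) - t E(rev b, rev a)` (an isometry when `a`, `b` are outside the
middle, `a ≠ b`, `a ≠ rev b`) -/
def xMat (a b : Fin (2 * m + 2)) (t : F) : Matrix (Fin (2 * m + 2)) (Fin (2 * m + 2)) F :=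
  1 + t • Matrix.single a b (1 : F) - t • Matrix.single (Fin.rev b) (Fin.rev a) (1 : F)

theorem xMat_apply (a b : Fin (2 * m + 2)) (t : F) (i j : Fin (2 * m + 2)) :
    xMat a b t i j = (if i = j then 1 else 0) + (if a = i ∧ b = j then t else 0)
      - (if Fin.rev b = i ∧ Fin.rev a = j then t else 0) := by
  unfold xMat
  simp only [Matrix.add_apply, Matrix.sub_apply, Matrix.smul_apply, Matrix.single_apply,
    Matrix.one_apply, smul_eq_mul, mul_ite, mul_one, mul_zero]

/-- the Siegel element `E_{e_e, w}`, `e` a position outside the middle, `w = (w₁, w₂)` a vector of the middle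
plane: `x ↦ x + β(x, w) e_e - β(x, e_e) w - Nf(w) β(x, e_e) e_e` -/
def sgMat (α β : F) (e : Fin (2 * m + 2)) (w1 w2 : F) : Matrix (Fin (2 * m + 2)) (Fin (2 * m + 2)) F :=
  1 + (2 * w1 + α * w2) • Matrix.single e c1 (1 : F) + (α * w1 + 2 * β * w2) • Matrix.single e c2 (1 : F)
    - w1 • Matrix.single c1 (Fin.rev e) (1 : F) - w2 • Matrix.single c2 (Fin.rev e) (1 : F)
    - Nf α β w1 w2 • Matrix.single e (Fin.rev e) (1 : F)

theorem sgMat_apply (α β : F) (e : Fin (2 * m + 2)) (w1 w2 : F) (i j : Fin (2 * m + 2)) :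
    sgMat α β e w1 w2 i j = (if i = j then 1 else 0)
      + (if e = i ∧ c1 = j then 2 * w1 + α * w2 else 0)
      + (if e = i ∧ c2 = j then α * w1 + 2 * β * w2 else 0)
      - (if c1 = i ∧ Fin.rev e = j then w1 else 0)
      - (if c2 = i ∧ Fin.rev e = j then w2 else 0)
      - (if e = i ∧ Fin.rev e = j then Nf α β w1 w2 else 0) := by
  unfold sgMat
  simp only [Matrix.add_apply, Matrix.sub_apply, Matrix.smul_apply, Matrix.single_apply,
    Matrix.one_apply, smul_eq_mul, mul_ite, mul_one, mul_zero]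

/-- the conjugation `c₀` of the middle plane (`x + y θ ↦ x + y (α - θ)`), extended by the identity: an isometry
which is not in `G1` -/
def c0Mat (α : F) : Matrix (Fin (2 * m + 2)) (Fin (2 * m + 2)) F :=
  Matrix.of fun i j => if j = c2 then (if i = c1 then α else if i = c2 then -1 else 0)
    else if i = j then 1 else 0

theorem c0Mat_apply (α : F) (i j : Fin (2 * m + 2)) :
    c0Mat α i j = if j = c2 then (if i = c1 then α else if i = c2 then -1 else 0)
      else if i = j then 1 else 0 := rfl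

/-- the element exchanging `e_{lo i}` and `e_{hi i}` and acting as `c₀` on the middle plane -/
def sVMat (α : F) (i : Fin m) : Matrix (Fin (2 * m + 2)) (Fin (2 * m + 2)) F :=
  Matrix.of fun r s => if s = c2 then (if r = c1 then α else if r = c2 then -1 else 0)
    else if r = Equiv.swap (lo i) (hi i) s then 1 else 0

theorem sVMat_apply (α : F) (i : Fin m) (r s : Fin (2 * m + 2)) :
    sVMat α i r s = if s = c2 then (if r = c1 then α else if r = c2 then -1 else 0)
      else if r = Equiv.swap (lo i) (hi i) s then 1 else 0 := rfl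

/-- the position `k + 1` -/
def ib (k : Fin m) : Fin (2 * m + 2) := ⟨k.val + 1, by have := k.2; omega⟩

theorem val_ib (k : Fin m) : (ib k).val = k.val + 1 := rfl

/-- the permutation of the positions induced by `s_k`, `k + 1 < m`: `(k k+1)(2m-k 2m+1-k)` -/
def sPerm (k : Fin m) : Equiv.Perm (Fin (2 * m + 2)) :=
  Equiv.swap (lo k) (ib k) * Equiv.swap (Fin.rev (lo k)) (Fin.rev (ib k))

/-- the action of `sPerm k` on the positions -/
theorem val_sPerm (k : Fin m) (hk : k.val + 1 < m) (j : Fin (2 * m + 2)) :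
    (sPerm k j).val =
      if j.val = k.val then k.val + 1 else if j.val = k.val + 1 then k.val
        else if j.val = 2 * m - k.val then 2 * m + 1 - k.val
        else if j.val = 2 * m + 1 - k.val then 2 * m - k.val else j.val := by
  have hj := j.2
  unfold sPerm
  simp only [Equiv.Perm.mul_apply, Equiv.swap_apply_def, eq_iff_val_eq, val_lo, val_ib, val_rev,
    apply_ite Fin.val]
  split_ifs <;> omega

theorem sPerm_sPerm (k : Fin m) (hk : k.val + 1 < m) (j : Fin (2 * m + 2)) :
    sPerm k (sPerm k j) = j := by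
  apply Fin.ext
  rw [val_sPerm k hk, val_sPerm k hk]
  have hj := j.2
  split_ifs <;> omega

theorem sPerm_rev (k : Fin m) (hk : k.val + 1 < m) (j : Fin (2 * m + 2)) :
    sPerm k (Fin.rev j) = Fin.rev (sPerm k j) := by
  apply Fin.ext
  rw [val_rev, val_sPerm k hk, val_sPerm k hk, val_rev]
  have hj := j.2
  split_ifs <;> omega

/-- the matrix of the distinguished representative of the `k`-th simple reflection: a permutation matrix if
`k + 1 < m` (kind I), the element `sVMat α k` if `k + 1 = m` (kind V) -/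
def sMat (α : F) (k : Fin m) : Matrix (Fin (2 * m + 2)) (Fin (2 * m + 2)) F :=
  if k.val + 1 < m then pMat (sPerm k) else sVMat α k

theorem sMat_of_lt (α : F) (k : Fin m) (hk : k.val + 1 < m) : sMat α k = pMat (sPerm k) := by
  unfold sMat; rw [if_pos hk]

theorem sMat_of_eq (α : F) (k : Fin m) (hk : k.val + 1 = m) : sMat α k = sVMat α k := by
  unfold sMat; rw [if_neg (by omega)]

/-- the root group `X_k` (as a set): `x_{k,k+1}(t)` for `k + 1 < m`, the Siegel elements `E_{e_k, w}` for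
`k + 1 = m` -/
def Xset (α β : F) (k : Fin m) : Set (OG m α β) :=
  {g | (k.val + 1 < m ∧ ∃ t : F, mat g = xMat (lo k) (ib k) t) ∨
    (k.val + 1 = m ∧ ∃ w1 w2 : F, mat g = sgMat α β (lo k) w1 w2)}

/-- the set of distinguished representatives of the simple reflections -/
def Sset (m : ℕ) {F : Type*} [Field F] (α β : F) : Set (OG m α β) :=
  {s | ∃ k : Fin m, mat s = sMat α k}

/-- the group `N` -/
def Nsub (m : ℕ) {F : Type*} [Field F] (α β : F) : Subgroup (OG m α β) :=
  Subgroup.closure (Sset m α β) ⊔ Tsub m α β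

/-- the group with the `(B, N)`-pair: `G1 = ⟨B, N⟩` (of index two in `OG m α β`) -/
def G1 (m : ℕ) {F : Type*} [Field F] (α β : F) : Subgroup (OG m α β) := Bsub m α β ⊔ Nsub m α β

theorem Bsub_le_G1 : Bsub m α β ≤ G1 m α β := le_sup_left

theorem Nsub_le_G1 : Nsub m α β ≤ G1 m α β := le_sup_right

theorem Tsub_le_Nsub : Tsub m α β ≤ Nsub m α β := le_sup_right

theorem Sset_subset_Nsub : Sset m α β ⊆ (Nsub m α β : Set (OG m α β)) :=
  fun _ hs => (le_sup_left : Subgroup.closure (Sset m α β) ≤ Nsub m α β) (Subgroup.subset_closure hs)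

/-! ### block monomial matrices: API -/

section mono

variable (n : OG m α β) (π : Equiv.Perm (Fin (2 * m + 2))) (hπ1 : π c1 = c1) (hπ2 : π c2 = c2)
  (hπ : ∀ r s : Fin (2 * m + 2), pos r ≠ pos (π s) → mat n r s = 0)
  (hπ' : ∀ r s : Fin (2 * m + 2), pos r ≠ pos (π⁻¹ s) → mat n⁻¹ r s = 0)

include hπ1 in
theorem perm_ne_c1 (s : Fin (2 * m + 2)) (hs : s ≠ c1) : π s ≠ c1 := by
  intro h
  apply hs
  rw [← hπ1] at h
  exact π.injective h

include hπ2 in
theorem perm_ne_c2 (s : Fin (2 * m + 2)) (hs : s ≠ c2) : π s ≠ c2 := by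
  intro h
  apply hs
  rw [← hπ2] at h
  exact π.injective h

include hπ1 hπ2 hπ in
/-- a column outside the middle has a single non-zero entry -/
theorem mono_apply_outer (r s : Fin (2 * m + 2)) (hs1 : s ≠ c1) (hs2 : s ≠ c2) (hr : r ≠ π s) :
    mat n r s = 0 := by
  apply hπ
  intro h
  exact hr (eq_of_pos_eq r (π s) h (perm_ne_c1 π hπ1 s hs1) (perm_ne_c2 π hπ2 s hs2))

include hπ1 hπ2 hπ in
/-- a middle column is supported in the middle rows -/
theorem mono_apply_mid (r s : Fin (2 * m + 2)) (hs : s = c1 ∨ s = c2) (hr1 : r ≠ c1) (hr2 : r ≠ c2) :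
    mat n r s = 0 := by
  apply hπ
  intro h
  have h' : pos r = m := by
    rcases hs with hs | hs
    · rw [h, hs, hπ1, pos_c1]
    · rw [h, hs, hπ2, pos_c2]
  rcases (pos_eq_m_iff r).1 h' with h'' | h''
  · exact hr1 h''
  · exact hr2 h''

include hπ1 hπ2 hπ in
/-- the product of a matrix with a block monomial matrix: columns outside the middle -/
theorem mul_mono_apply (A : Matrix (Fin (2 * m + 2)) (Fin (2 * m + 2)) F) (r s : Fin (2 * m + 2))
    (hs1 : s ≠ c1) (hs2 : s ≠ c2) : (A * mat n) r s = A r (π s) * mat n (π s) s := by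
  rw [Matrix.mul_apply]
  apply Finset.sum_eq_single (π s)
  · intro k _ hk
    rw [mono_apply_outer n π hπ1 hπ2 hπ k s hs1 hs2 hk, mul_zero]
  · intro h; exact absurd (Finset.mem_univ _) h

include hπ1 hπ2 hπ in
/-- the product of a matrix with a block monomial matrix: middle columns -/
theorem mul_mono_apply_mid (A : Matrix (Fin (2 * m + 2)) (Fin (2 * m + 2)) F) (r s : Fin (2 * m + 2))
    (hs : s = c1 ∨ s = c2) : (A * mat n) r s = A r c1 * mat n c1 s + A r c2 * mat n c2 s := by
  rw [Matrix.mul_apply]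
  apply Finset.sum_eq_add c1 c2 c1_ne_c2
  · intro k _ hk
    rw [mono_apply_mid n π hπ1 hπ2 hπ k s hs hk.1 hk.2, mul_zero]
  · intro h; exact absurd (Finset.mem_univ _) h
  · intro h; exact absurd (Finset.mem_univ _) h

include hπ' in
/-- a row of the inverse outside the middle has a single non-zero entry -/
theorem mono_inv_apply_outer (r k : Fin (2 * m + 2)) (hr1 : r ≠ c1) (hr2 : r ≠ c2) (hk : k ≠ π r) :
    mat n⁻¹ r k = 0 := by
  apply hπ'
  intro h
  apply hk
  have h3 : π⁻¹ k = r := (eq_of_pos_eq (π⁻¹ k) r h.symm hr1 hr2)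
  rw [← h3]
  simp

include hπ1 hπ2 hπ' in
/-- a middle row of the inverse is supported in the middle columns -/
theorem mono_inv_apply_mid (r k : Fin (2 * m + 2)) (hr : r = c1 ∨ r = c2) (hk1 : k ≠ c1) (hk2 : k ≠ c2) :
    mat n⁻¹ r k = 0 := by
  apply hπ'
  intro h
  have hp : pos (π⁻¹ k) = m := by
    rw [← h]
    rcases hr with hr | hr
    · rw [hr, pos_c1]
    · rw [hr, pos_c2]
  rcases (pos_eq_m_iff _).1 hp with h'' | h''
  · apply hk1
    rw [Equiv.Perm.inv_eq_iff_eq] at h''
    rw [h'', hπ1]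
  · apply hk2
    rw [Equiv.Perm.inv_eq_iff_eq] at h''
    rw [h'', hπ2]

include hπ' in
/-- the product of the inverse of a block monomial matrix with a matrix: rows outside the middle -/
theorem inv_mono_mul_apply (A : Matrix (Fin (2 * m + 2)) (Fin (2 * m + 2)) F) (r s : Fin (2 * m + 2))
    (hr1 : r ≠ c1) (hr2 : r ≠ c2) : (mat n⁻¹ * A) r s = mat n⁻¹ r (π r) * A (π r) s := by
  rw [Matrix.mul_apply]
  apply Finset.sum_eq_single (π r)
  · intro k _ hk
    rw [mono_inv_apply_outer n π hπ' r k hr1 hr2 hk, zero_mul]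
  · intro h; exact absurd (Finset.mem_univ _) h

include hπ1 hπ2 hπ' in
/-- the product of the inverse of a block monomial matrix with a matrix: middle rows -/
theorem inv_mono_mul_apply_mid (A : Matrix (Fin (2 * m + 2)) (Fin (2 * m + 2)) F)
    (r s : Fin (2 * m + 2)) (hr : r = c1 ∨ r = c2) :
    (mat n⁻¹ * A) r s = mat n⁻¹ r c1 * A c1 s + mat n⁻¹ r c2 * A c2 s := by
  rw [Matrix.mul_apply]
  apply Finset.sum_eq_add c1 c2 c1_ne_c2
  · intro k _ hk
    rw [mono_inv_apply_mid n π hπ1 hπ2 hπ' r k hr hk.1 hk.2, zero_mul]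
  · intro h; exact absurd (Finset.mem_univ _) h
  · intro h; exact absurd (Finset.mem_univ _) h

include hπ1 hπ2 hπ in
theorem mono_inv_apply_mul (s : Fin (2 * m + 2)) (hs1 : s ≠ c1) (hs2 : s ≠ c2) :
    mat n⁻¹ s (π s) * mat n (π s) s = 1 := by
  have h1 := mul_mono_apply n π hπ1 hπ2 hπ (mat n⁻¹) s s hs1 hs2
  rw [inv_mul_mat, Matrix.one_apply_eq] at h1
  exact h1.symm

include hπ1 hπ2 hπ in
/-- the non-zero entries of a block monomial matrix outside the middle are non-zero -/
theorem mono_apply_ne_zero (s : Fin (2 * m + 2)) (hs1 : s ≠ c1) (hs2 : s ≠ c2) :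
    mat n (π s) s ≠ 0 := by
  intro h0
  have := mono_inv_apply_mul n π hπ1 hπ2 hπ s hs1 hs2
  rw [h0, mul_zero] at this
  exact zero_ne_one this

include hπ1 hπ2 hπ in
theorem mono_inv_apply_ne_zero (s : Fin (2 * m + 2)) (hs1 : s ≠ c1) (hs2 : s ≠ c2) :
    mat n⁻¹ s (π s) ≠ 0 := by
  intro h0
  have := mono_inv_apply_mul n π hπ1 hπ2 hπ s hs1 hs2
  rw [h0, zero_mul] at this
  exact zero_ne_one this

include hπ1 hπ2 hπ in
/-- the permutation of a block monomial isometry commutes with the reversal of the positions -/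
theorem mono_perm_rev (r : Fin (2 * m + 2)) : π (Fin.rev r) = Fin.rev (π r) := by
  by_cases hr1 : r = c1
  · rw [hr1, rev_c1, hπ1, hπ2, rev_c1]
  by_cases hr2 : r = c2
  · rw [hr2, rev_c2, hπ1, hπ2, rev_c2]
  have hv1 : Fin.rev r ≠ c1 := fun h => hr2 (by rw [← Fin.rev_rev r, h, rev_c1])
  have hv2 : Fin.rev r ≠ c2 := fun h => hr1 (by rw [← Fin.rev_rev r, h, rev_c2])
  by_contra hne
  have h := rel_col n r (Fin.rev r)
  unfold Jm at h
  rw [if_neg hr1, if_neg hr2, if_pos rfl] at h
  have hc1 : mat n c1 r = 0 :=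
    mono_apply_outer n π hπ1 hπ2 hπ c1 r hr1 hr2 (fun h' => perm_ne_c1 π hπ1 r hr1 h'.symm)
  have hc2 : mat n c2 r = 0 :=
    mono_apply_outer n π hπ1 hπ2 hπ c2 r hr1 hr2 (fun h' => perm_ne_c2 π hπ2 r hr2 h'.symm)
  have hsum : ∑ i : Fin m, (mat n (lo i) r * mat n (hi i) (Fin.rev r) +
      mat n (hi i) r * mat n (lo i) (Fin.rev r)) = 0 := by
    apply Finset.sum_eq_zero
    intro i _
    have e1 : mat n (lo i) r * mat n (hi i) (Fin.rev r) = 0 := by
      by_cases hl : lo i = π r
      · have : hi i ≠ π (Fin.rev r) := by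
          intro h'
          apply hne
          rw [← h', ← hl, rev_lo]
        rw [mono_apply_outer n π hπ1 hπ2 hπ _ _ hv1 hv2 this, mul_zero]
      · rw [mono_apply_outer n π hπ1 hπ2 hπ _ _ hr1 hr2 hl, zero_mul]
    have e2 : mat n (hi i) r * mat n (lo i) (Fin.rev r) = 0 := by
      by_cases hl : hi i = π r
      · have : lo i ≠ π (Fin.rev r) := by
          intro h'
          apply hne
          rw [← h', ← hl, rev_hi]
        rw [mono_apply_outer n π hπ1 hπ2 hπ _ _ hv1 hv2 this, mul_zero]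
      · rw [mono_apply_outer n π hπ1 hπ2 hπ _ _ hr1 hr2 hl, zero_mul]
    rw [e1, e2, add_zero]
  rw [hsum, hc1, hc2] at h
  unfold Nb at h
  simp at h

end mono

/-! ### further API for the forms -/

theorem Bm_single_lo (u : Fin (2 * m + 2) → F) (j : Fin m) :
    Bm α β u (Pi.single (lo j) 1) = u (hi j) := by
  classical
  unfold Bm Nb
  rw [Pi.single_eq_of_ne (lo_ne_c1 j).symm, Pi.single_eq_of_ne (lo_ne_c2 j).symm,
    Finset.sum_eq_single j]
  · rw [Pi.single_eq_same, Pi.single_eq_of_ne (lo_ne_hi j j).symm]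
    ring
  · intro i _ hi'
    rw [Pi.single_eq_of_ne (lo_ne_hi j i).symm,
      Pi.single_eq_of_ne (fun h => hi' (lo_injective h))]
    ring
  · intro h; exact absurd (Finset.mem_univ _) h

theorem Bm_single_hi (u : Fin (2 * m + 2) → F) (j : Fin m) :
    Bm α β u (Pi.single (hi j) 1) = u (lo j) := by
  classical
  unfold Bm Nb
  rw [Pi.single_eq_of_ne (hi_ne_c1 j).symm, Pi.single_eq_of_ne (hi_ne_c2 j).symm,
    Finset.sum_eq_single j]
  · rw [Pi.single_eq_same, Pi.single_eq_of_ne (lo_ne_hi j j)]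
    ring
  · intro i _ hi'
    rw [Pi.single_eq_of_ne (lo_ne_hi i j),
      Pi.single_eq_of_ne (fun h => hi' (hi_injective h))]
    ring
  · intro h; exact absurd (Finset.mem_univ _) h

theorem Bm_single_c1 (u : Fin (2 * m + 2) → F) :
    Bm α β u (Pi.single c1 1) = 2 * u c1 + α * u c2 := by
  classical
  unfold Bm Nb
  rw [Pi.single_eq_same, Pi.single_eq_of_ne c1_ne_c2.symm]
  have : ∑ i : Fin m, (u (lo i) * (Pi.single c1 (1 : F) : Fin (2 * m + 2) → F) (hi i) +
      u (hi i) * (Pi.single c1 (1 : F) : Fin (2 * m + 2) → F) (lo i)) = 0 := by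
    apply Finset.sum_eq_zero
    intro i _
    rw [Pi.single_eq_of_ne (lo_ne_c1 i), Pi.single_eq_of_ne (hi_ne_c1 i)]
    ring
  rw [this]
  ring

theorem Bm_single_c2 (u : Fin (2 * m + 2) → F) :
    Bm α β u (Pi.single c2 1) = α * u c1 + 2 * β * u c2 := by
  classical
  unfold Bm Nb
  rw [Pi.single_eq_same, Pi.single_eq_of_ne c1_ne_c2]
  have : ∑ i : Fin m, (u (lo i) * (Pi.single c2 (1 : F) : Fin (2 * m + 2) → F) (hi i) +
      u (hi i) * (Pi.single c2 (1 : F) : Fin (2 * m + 2) → F) (lo i)) = 0 := by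
    apply Finset.sum_eq_zero
    intro i _
    rw [Pi.single_eq_of_ne (lo_ne_c2 i), Pi.single_eq_of_ne (hi_ne_c2 i)]
    ring
  rw [this]
  ring

/-- adjointness: `β(g u, v) = β(u, g⁻¹ v)` -/
theorem Bm_mulVec_inv (g : OG m α β) (u v : Fin (2 * m + 2) → F) :
    Bm α β (mat g *ᵥ u) v = Bm α β u (mat g⁻¹ *ᵥ v) := by
  have h := Bm_mulVec g u (mat g⁻¹ *ᵥ v)
  rw [Matrix.mulVec_mulVec, mul_inv_mat, Matrix.one_mulVec] at h
  exact h

/-! ### existence hypotheses (proved in the pieces MEMXI, MEMSG, MEMS, MEMROT, MEMC0) -/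

/-- the root elements `xMat a b t` are in the isometry group -/
def HasXI (m : ℕ) {F : Type*} [Field F] (α β : F) : Prop :=
  ∀ a b : Fin (2 * m + 2), a ≠ c1 → a ≠ c2 → b ≠ c1 → b ≠ c2 → a ≠ b → a ≠ Fin.rev b →
    ∀ t : F, ∃ g : OG m α β, mat g = xMat a b t

/-- the Siegel elements `sgMat α β e w1 w2` are in the isometry group -/
def HasSG (m : ℕ) {F : Type*} [Field F] (α β : F) : Prop :=
  ∀ e : Fin (2 * m + 2), e ≠ c1 → e ≠ c2 → ∀ w1 w2 : F, ∃ g : OG m α β, mat g = sgMat α β e w1 w2

/-- the representatives `sMat α k` are in the isometry group -/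
def HasS (m : ℕ) {F : Type*} [Field F] (α β : F) : Prop :=
  ∀ k : Fin m, ∃ g : OG m α β, mat g = sMat α k

/-- the matrix which is the rotation `x + y θ` on the middle plane and the identity outside -/
def rotMat (α β x y : F) : Matrix (Fin (2 * m + 2)) (Fin (2 * m + 2)) F :=
  Matrix.of fun i j =>
    if i = c1 ∧ j = c1 then x else if i = c1 ∧ j = c2 then -β * y
    else if i = c2 ∧ j = c1 then y else if i = c2 ∧ j = c2 then x + α * y
    else if i = j then 1 else 0

theorem rotMat_apply (α β x y : F) (i j : Fin (2 * m + 2)) :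
    (rotMat α β x y : Matrix (Fin (2 * m + 2)) (Fin (2 * m + 2)) F) i j =
      if i = c1 ∧ j = c1 then x else if i = c1 ∧ j = c2 then -β * y
      else if i = c2 ∧ j = c1 then y else if i = c2 ∧ j = c2 then x + α * y
      else if i = j then 1 else 0 := rfl

/-- the rotations of norm one are in the isometry group -/
def HasRot (m : ℕ) {F : Type*} [Field F] (α β : F) : Prop :=
  ∀ x y : F, Nf α β x y = 1 → ∃ g : OG m α β, mat g = rotMat α β x y

/-! ### generation: vocabulary -/

/-- the first `j` columns of `g` are upper triangular (`g` stabilises the first `j` steps of the standard flag) -/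
def Pj (j : ℕ) : Set (OG m α β) :=
  {g | ∀ r s : Fin (2 * m + 2), s.val < j → s < r → mat g r s = 0}

/-- `Pj j` is closed under inverses -/
theorem inv_mem_Pj (j : ℕ) (g : OG m α β) (hg : g ∈ Pj j) : g⁻¹ ∈ Pj j := by
  have hB : BlockTriangular (mat g) (fun i : Fin (2 * m + 2) => min i.val j) := by
    intro a b hab
    have hab' : min b.val j < min a.val j := hab
    exact hg a b (by omega) (by rw [Fin.lt_def]; omega)
  have : Invertible (mat g) := Matrix.invertibleOfIsUnitDet _ (isUnit_det_mat g)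
  have hB' := blockTriangular_inv_of_blockTriangular hB
  rw [← mat_inv_eq] at hB'
  intro a b hbj hba
  apply hB'
  show min b.val j < min a.val j
  rw [Fin.lt_def] at hba
  omega

/-- `Pj j` is closed under products -/
theorem mul_mem_Pj (j : ℕ) (g h : OG m α β) (hg : g ∈ Pj j) (hh : h ∈ Pj j) : g * h ∈ Pj j := by
  have hB : ∀ g : OG m α β, g ∈ Pj j →
      BlockTriangular (mat g) (fun i : Fin (2 * m + 2) => min i.val j) := by
    intro g hg a b hab
    have hab' : min b.val j < min a.val j := hab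
    exact hg a b (by omega) (by rw [Fin.lt_def]; omega)
  have hB' := BlockTriangular.mul (hB g hg) (hB h hh)
  intro a b hbj hba
  rw [mat_mul]
  apply hB'
  show min b.val j < min a.val j
  rw [Fin.lt_def] at hba
  omega

/-- the first `j` columns of `h` are those of the identity matrix -/
def Fixj (j : ℕ) (h : OG m α β) : Prop :=
  ∀ r s : Fin (2 * m + 2), s.val < j → mat h r s = if r = s then 1 else 0

end Cfsg.Agent.Helper5.OmBN
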