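import Mathlib
import Cfsg.Agent.Helper5.OmBN.Defs
import Cfsg.Agent.Helper19.OpBN.BNSub
import Cfsg.Agent.Helper20.OmBNN1
import Cfsg.Agent.Helper20.OmBNN2
import Cfsg.Agent.Helper30.OmBNMEMXI
import Cfsg.Agent.Helper30.OmBNS2
import Cfsg.Agent.Helper34.OmBNN3
import Cfsg.Agent.Helper34.OmBNR1V
import Cfsg.Agent.Helper37.OmBNR2V
import Cfsg.Agent.Helper37.OmBNR3I
import Cfsg.Agent.Helper48.OmBNMEMSG
import Cfsg.Agent.Helper48.OmBNSGMUL
import Cfsg.Agent.Helper65.OmBNMEMS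
import Cfsg.Agent.Helper65.OmBNR2I
import Cfsg.Agent.Helper66.OmBNCN
import Cfsg.Agent.Helper66.OmBNR3V
import Cfsg.Agent.Helper90.OmBNXB
import Cfsg.Agent.Helper90.OmBNXIINV
import Cfsg.Agent.Helper93.OmBNR1I
import Cfsg.Agent.Helper93.OmBNSSQ
import Cfsg.Agent.Helper97.OmBNMEMC0
import Cfsg.Agent.Helper97.OmBNMEMROT

/-!
# The (B,N)-pair of `G1 = ⟨B, N⟩ ≤ O(Qm α β)` (helper5, S2549)
-/

set_option autoImplicit false

namespace Cfsg.Agent.Helper5.OmBN.Pair

open Matrix Cfsg.Agent.Helper5.OmBN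

variable {F : Type*} [Field F] {m : ℕ} {α β : F}

/-! ### pieces: membership -/

/-- (MEMXI) the root elements are isometries -/
theorem xMat_isO (a b : Fin (2 * m + 2)) (ha1 : a ≠ c1) (ha2 : a ≠ c2) (hb1 : b ≠ c1) (hb2 : b ≠ c2)
    (hab : a ≠ b) (hab' : a ≠ Fin.rev b) (t : F) : IsO α β (xMat a b t) :=
  Cfsg.Agent.Helper30.OmBN.xMat_isO a b ha1 ha2 hb1 hb2 hab hab' t

/-- (XIINV) -/
theorem xMat_neg_mul (a b : Fin (2 * m + 2)) (hab : a ≠ b) (hab' : a ≠ Fin.rev b) (t : F) :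
    xMat a b (-t) * xMat a b t = 1 :=
  Cfsg.Agent.Helper90.OmBN.xMat_neg_mul a b hab hab' t

/-- (MEMSG) the Siegel elements are isometries -/
theorem sgMat_isO (e : Fin (2 * m + 2)) (he1 : e ≠ c1) (he2 : e ≠ c2) (w1 w2 : F) :
    IsO α β (sgMat α β e w1 w2) :=
  Cfsg.Agent.Helper48.OmBN.sgMat_isO e he1 he2 w1 w2

/-- (SGMUL) the Siegel elements `E_{e,w}`, `e` fixed, multiply like the vectors `w` add -/
theorem sgMat_mul (e : Fin (2 * m + 2)) (he1 : e ≠ c1) (he2 : e ≠ c2) (w1 w2 v1 v2 : F) :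
    sgMat α β e w1 w2 * sgMat α β e v1 v2 = sgMat α β e (w1 + v1) (w2 + v2) :=
  Cfsg.Agent.Helper48.OmBN.sgMat_mul e he1 he2 w1 w2 v1 v2

/-- (SGZERO) -/
theorem sgMat_zero (e : Fin (2 * m + 2)) : sgMat α β e 0 0 = 1 :=
  Cfsg.Agent.Helper48.OmBN.sgMat_zero e

/-- (MEMS) the representatives of the simple reflections are isometries -/
theorem sMat_isO (k : Fin m) : IsO α β (sMat α k) :=
  Cfsg.Agent.Helper65.OmBN.sMat_isO k

/-- (SSQ) the representatives of the simple reflections are involutions -/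
theorem sMat_mul_self (k : Fin m) : sMat α k * sMat α k = 1 :=
  Cfsg.Agent.Helper93.OmBN.sMat_mul_self k

/-- (MEMC0) the conjugation of the middle plane is an isometry, and an involution -/
theorem c0Mat_isO : IsO α β (c0Mat (m := m) α) :=
  Cfsg.Agent.Helper97.OmBN.c0Mat_isO 

/-- (C0SQ) -/
theorem c0Mat_mul_self : c0Mat (m := m) α * c0Mat α = 1 :=
  Cfsg.Agent.Helper97.OmBN.c0Mat_mul_self 

/-- (MEMROT) the rotations of norm one are isometries -/
theorem rotMat_isO (x y : F) (h : Nf α β x y = 1) : IsO α β (rotMat (m := m) α β x y) :=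
  Cfsg.Agent.Helper97.OmBN.rotMat_isO x y h

/-- (ROTMUL) -/
theorem rotMat_mul (x y x' y' : F) :
    rotMat (m := m) α β x y * rotMat α β x' y' =
      rotMat α β (x * x' - β * y * y') (x * y' + y * x' + α * y * y') :=
  Cfsg.Agent.Helper97.OmBN.rotMat_mul x y x' y'

/-- (ROTONE) -/
theorem rotMat_one : rotMat (m := m) α β 1 0 = 1 :=
  Cfsg.Agent.Helper97.OmBN.rotMat_one 

/-! ### pieces: the (B,N)-pair -/

/-- (XB) root elements are in `U` -/
theorem Xset_subset_Usub (k : Fin m) : Xset α β k ⊆ (Usub m α β : Set (OG m α β)) :=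
  Cfsg.Agent.Helper90.OmBN.Xset_subset_Usub k

/-- (N1) the reflections are block monomial -/
theorem Sset_subset_Mono1 (hsq : ∀ k : Fin m, sMat α k * sMat α k = 1) :
    Sset m α β ⊆ (Mono1 m α β : Set (OG m α β)) :=
  Cfsg.Agent.Helper20.OmBN.Sset_subset_Mono1 hsq

/-- (N2) block upper triangular block monomial matrices are block diagonal -/
theorem Bsub_inf_Mono1 : Bsub m α β ⊓ Mono1 m α β = Tsub m α β :=
  Cfsg.Agent.Helper20.OmBN.Bsub_inf_Mono1 

/-- (N3) the reflections normalise the torus -/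
theorem conj_mem_Tsub_of_Sset (hsq : ∀ k : Fin m, sMat α k * sMat α k = 1) (s : OG m α β)
    (hs : s ∈ Sset m α β) (t : OG m α β) (ht : t ∈ Tsub m α β) : s * t * s⁻¹ ∈ Tsub m α β :=
  Cfsg.Agent.Helper34.OmBN.conj_mem_Tsub_of_Sset hsq s hs t ht

/-- (S2) a product of two representatives which is block upper triangular: the same reflection -/
theorem eq_of_mul_mem_Bfull (k k' : Fin m) (s s' : OG m α β) (hs : mat s = sMat α k)
    (hs' : mat s' = sMat α k') (h : s * s' ∈ Bfull m α β) : k = k' :=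
  Cfsg.Agent.Helper30.OmBN.eq_of_mul_mem_Bfull k k' s s' hs hs' h

/-- (R1-I) `B = (B ∩ s⁻¹ B s) X_k`, roots of kind I -/
theorem exists_factor_I (hXI : HasXI m α β) (k : Fin m) (hk : k.val + 1 < m) (s : OG m α β)
    (hs : mat s = sMat α k) (b : OG m α β) (hb : b ∈ Bsub m α β) :
    ∃ y x : OG m α β, b = y * x ∧ s * y * s⁻¹ ∈ Bsub m α β ∧ x ∈ Xset α β k :=
  Cfsg.Agent.Helper93.OmBNR1I.exists_factor_I hXI k hk s hs b hb

/-- (R1-V) the same for the root of kind V -/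
theorem exists_factor_V (hSG : HasSG m α β) (hdisc : 4 * β - α ^ 2 ≠ 0) (k : Fin m)
    (hk : k.val + 1 = m) (s : OG m α β) (hs : mat s = sMat α k) (b : OG m α β)
    (hb : b ∈ Bsub m α β) :
    ∃ y x : OG m α β, b = y * x ∧ s * y * s⁻¹ ∈ Bsub m α β ∧ x ∈ Xset α β k :=
  Cfsg.Agent.Helper34.OmBN.exists_factor_V hSG hdisc k hk s hs b hb

/-- (R2-I) a block monomial matrix `n` or `s n` conjugates `X_k` into `B`, kind I -/
theorem conj_Xset_dichotomy_I (k : Fin m) (hk : k.val + 1 < m) (s : OG m α β)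
    (hs : mat s = sMat α k) (n : OG m α β) (hn : n ∈ Mono1 m α β) :
    (∀ x ∈ Xset α β k, n⁻¹ * x * n ∈ Bsub m α β) ∨
      (∀ x ∈ Xset α β k, (s * n)⁻¹ * x * (s * n) ∈ Bsub m α β) :=
  Cfsg.Agent.Helper65.OmBN.conj_Xset_dichotomy_I k hk s hs n hn

/-- (R2-V) the same, kind V -/
theorem conj_Xset_dichotomy_V (k : Fin m) (hk : k.val + 1 = m) (s : OG m α β)
    (hs : mat s = sMat α k) (n : OG m α β) (hn : n ∈ Mono1 m α β) :
    (∀ x ∈ Xset α β k, n⁻¹ * x * n ∈ Bsub m α β) ∨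
      (∀ x ∈ Xset α β k, (s * n)⁻¹ * x * (s * n) ∈ Bsub m α β) :=
  Cfsg.Agent.Helper37.OmBN.conj_Xset_dichotomy_V k hk s hs n hn

/-- (R3-I) the rank one relation `s x s⁻¹ ∈ B s X_k`, kind I: `x = x_k(t)`, `x₂ = x_k(t⁻¹)` -/
theorem rank_one_I (hXI : HasXI m α β) (k : Fin m) (hk : k.val + 1 < m) (s : OG m α β)
    (hs : mat s = sMat α k) (x : OG m α β) (hx : x ∈ Xset α β k) (hx1 : x ≠ 1) :
    ∃ b₁ ∈ Bsub m α β, ∃ x₂ ∈ Xset α β k, s * x * s⁻¹ = b₁ * s * x₂ :=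
  Cfsg.Agent.Helper37.OmBN.rank_one_I hXI k hk s hs x hx hx1

/-- (R3-V) kind V: `x = E_{e,w}`, `x₂ = E_{e,w'}`, `w' = -c₀(w)/Nf(w)`, `c₀(w) = (w₁ + α w₂, -w₂)` -/
theorem rank_one_V (hSG : HasSG m α β)
    (hab : ∀ z₁ z₂ : F, Nf α β z₁ z₂ = 0 → z₁ = 0 ∧ z₂ = 0) (k : Fin m) (hk : k.val + 1 = m)
    (s : OG m α β) (hs : mat s = sMat α k) (x : OG m α β) (hx : x ∈ Xset α β k) (hx1 : x ≠ 1) :
    ∃ b₁ ∈ Bsub m α β, ∃ x₂ ∈ Xset α β k, s * x * s⁻¹ = b₁ * s * x₂ :=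
  Cfsg.Agent.Helper66.OmBN.rank_one_V hSG hab k hk s hs x hx hx1

/-- (CN) -/
theorem conj_ne (hXI : HasXI m α β) (hSG : HasSG m α β) (s : OG m α β) (hs : s ∈ Sset m α β) :
    (fun b : OG m α β => s * b * s) '' (Bsub m α β : Set (OG m α β)) ≠
      (Bsub m α β : Set (OG m α β)) :=
  Cfsg.Agent.Helper66.OmBN.conj_ne hXI hSG s hs

/-! ### assembly: the (B,N)-pair -/

section assembly

variable (hXI : HasXI m α β) (hSG : HasSG m α β) (hS : HasS m α β)
  (hab : ∀ z₁ z₂ : F, Nf α β z₁ z₂ = 0 → z₁ = 0 ∧ z₂ = 0) (hdisc : 4 * β - α ^ 2 ≠ 0)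

theorem hsq' : ∀ k : Fin m, sMat α k * sMat α k = 1 := fun k => sMat_mul_self k

theorem hasXI : HasXI m α β := by
  intro a b ha1 ha2 hb1 hb2 hab hab' t
  exact exists_of_isO (xMat_isO a b ha1 ha2 hb1 hb2 hab hab' t) (xMat_neg_mul a b hab hab' t)

theorem hasSG : HasSG m α β := by
  intro e he1 he2 w1 w2
  refine exists_of_isO (sgMat_isO e he1 he2 w1 w2) (M' := sgMat α β e (-w1) (-w2)) ?_
  rw [sgMat_mul e he1 he2, neg_add_cancel, neg_add_cancel, sgMat_zero]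

theorem hasS : HasS m α β := fun k => exists_of_isO (sMat_isO k) (sMat_mul_self k)

theorem hasRot : HasRot m α β := by
  intro x y h
  refine exists_of_isO (rotMat_isO x y h) (M' := rotMat α β (x + α * y) (-y)) ?_
  rw [rotMat_mul]
  have e1 : (x + α * y) * x - β * -y * y = 1 := by
    unfold Nf at h
    linear_combination h
  have e2 : (x + α * y) * y + -y * x + α * -y * y = 0 := by ring
  rw [e1, e2, rotMat_one]

/-- the representatives are involutions -/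
theorem s_mul_s (s : OG m α β) (hs : s ∈ Sset m α β) : s * s = 1 := by
  obtain ⟨k, hk⟩ := hs
  apply mat_injective
  rw [mat_mul, hk, sMat_mul_self, mat_one]

theorem s_inv (s : OG m α β) (hs : s ∈ Sset m α β) : s⁻¹ = s :=
  inv_eq_of_mul_eq_one_left (s_mul_s s hs)

theorem Nsub_le_Mono1 : Nsub m α β ≤ Mono1 m α β := by
  unfold Nsub
  rw [sup_le_iff, Subgroup.closure_le]
  exact ⟨Sset_subset_Mono1 hsq', Tsub_le_Mono1⟩

theorem Bsub_inf_Nsub : Bsub m α β ⊓ Nsub m α β = Tsub m α β := by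
  apply le_antisymm
  · rw [← Bsub_inf_Mono1]
    exact inf_le_inf_left _ Nsub_le_Mono1
  · exact le_inf Tsub_le_Bsub le_sup_right

/-- `N` normalises the torus, both ways -/
theorem conj_mem_Tsub (n : OG m α β) (hn : n ∈ Nsub m α β) :
    ∀ t ∈ Tsub m α β, n * t * n⁻¹ ∈ Tsub m α β ∧ n⁻¹ * t * n ∈ Tsub m α β := by
  unfold Nsub at hn
  rw [← Subgroup.closure_eq (Tsub m α β), ← Subgroup.closure_union] at hn
  induction hn using Subgroup.closure_induction with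
  | mem y hy =>
    intro t ht
    rcases hy with hy | hy
    · have h1 := conj_mem_Tsub_of_Sset hsq' y hy t ht
      refine ⟨h1, ?_⟩
      rw [s_inv y hy] at h1 ⊢
      exact h1
    · exact ⟨(Tsub m α β).mul_mem ((Tsub m α β).mul_mem hy ht) ((Tsub m α β).inv_mem hy),
        (Tsub m α β).mul_mem ((Tsub m α β).mul_mem ((Tsub m α β).inv_mem hy) ht) hy⟩
  | one =>
    intro t ht
    simpa using ht
  | mul y z _ _ ihy ihz =>
    intro t ht
    constructor
    · have e : y * z * t * (y * z)⁻¹ = y * (z * t * z⁻¹) * y⁻¹ := by group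
      rw [e]
      exact (ihy _ (ihz t ht).1).1
    · have e : (y * z)⁻¹ * t * (y * z) = z⁻¹ * (y⁻¹ * t * y) * z := by group
      rw [e]
      exact (ihz _ (ihy t ht).2).2
  | inv y _ ihy =>
    intro t ht
    rw [inv_inv]
    exact ⟨(ihy t ht).2, (ihy t ht).1⟩

include hXI hSG hdisc in
theorem exists_factor (k : Fin m) (s : OG m α β) (hs : mat s = sMat α k) (b : OG m α β)
    (hb : b ∈ Bsub m α β) :
    ∃ y x : OG m α β, b = y * x ∧ s * y * s⁻¹ ∈ Bsub m α β ∧ x ∈ Xset α β k := by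
  have hk := k.2
  rcases Nat.lt_or_ge (k.val + 1) m with h | h
  · exact exists_factor_I hXI k h s hs b hb
  · exact exists_factor_V hSG hdisc k (by omega) s hs b hb

include hXI hSG hab in
theorem rank_one (k : Fin m) (s : OG m α β) (hs : mat s = sMat α k) (x : OG m α β)
    (hx : x ∈ Xset α β k) (hx1 : x ≠ 1) :
    ∃ b₁ ∈ Bsub m α β, ∃ x₂ ∈ Xset α β k, s * x * s⁻¹ = b₁ * s * x₂ := by
  have hk := k.2
  rcases Nat.lt_or_ge (k.val + 1) m with h | h
  · exact rank_one_I hXI k h s hs x hx hx1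
  · exact rank_one_V hSG hab k (by omega) s hs x hx hx1

theorem conj_Xset_dichotomy (k : Fin m) (s : OG m α β) (hs : mat s = sMat α k) (n : OG m α β)
    (hn : n ∈ Mono1 m α β) :
    (∀ x ∈ Xset α β k, n⁻¹ * x * n ∈ Bsub m α β) ∨
      (∀ x ∈ Xset α β k, (s * n)⁻¹ * x * (s * n) ∈ Bsub m α β) := by
  have hk := k.2
  rcases Nat.lt_or_ge (k.val + 1) m with h | h
  · exact conj_Xset_dichotomy_I k h s hs n hn
  · exact conj_Xset_dichotomy_V k (by omega) s hs n hn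

include hXI hSG hab hdisc in
/-- the double coset axiom from the rank one data -/
theorem mul_mem_union (s : OG m α β) (hs : s ∈ Sset m α β) (n : OG m α β) (hn : n ∈ Nsub m α β)
    (b : OG m α β) (hb : b ∈ Bsub m α β) :
    s * b * n ∈ DoubleCoset.doubleCoset (s * n) (Bsub m α β : Set (OG m α β)) (Bsub m α β) ∪
      DoubleCoset.doubleCoset n (Bsub m α β : Set (OG m α β)) (Bsub m α β) := by
  have hss : s * s = 1 := s_mul_s s hs
  obtain ⟨k, hk⟩ := hs
  obtain ⟨y, x, rfl, hy, hx⟩ := exists_factor hXI hSG hdisc k s hk b hb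
  have hnM := Nsub_le_Mono1 hn
  by_cases hx1 : x = 1
  · subst hx1
    left
    rw [DoubleCoset.mem_doubleCoset]
    refine ⟨s * y * s⁻¹, hy, 1, (Bsub m α β).one_mem, ?_⟩
    group
  rcases conj_Xset_dichotomy k s hk n hnM with h | h
  · left
    rw [DoubleCoset.mem_doubleCoset]
    refine ⟨s * y * s⁻¹, hy, n⁻¹ * x * n, h x hx, ?_⟩
    group
  · right
    obtain ⟨b₁, hb₁, x₂, hx₂, he⟩ := rank_one hXI hSG hab k s hk x hx hx1
    rw [DoubleCoset.mem_doubleCoset]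
    refine ⟨s * y * s⁻¹ * b₁ * (s * s), ?_, (s * n)⁻¹ * x₂ * (s * n), h x₂ hx₂, ?_⟩
    · rw [hss, mul_one]
      exact (Bsub m α β).mul_mem hy hb₁
    have e : s * (y * x) * n = s * y * s⁻¹ * (s * x * s⁻¹) * s * n := by group
    rw [e, he]
    group

include hXI hSG hab hdisc in
/-- **the (B,N)-data of `G1`** -/
noncomputable def bnData : Cfsg.Agent.Helper19.OpBN.BNData (OG m α β) where
  B := Bsub m α β
  N := Nsub m α β
  S := Sset m α β
  conj_mem := by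
    intro n hn t ht
    rw [Bsub_inf_Nsub] at ht
    exact Tsub_le_Bsub (conj_mem_Tsub n hn t ht).1
  subset := Sset_subset_Nsub
  sq_mem := fun s hs => by rw [s_mul_s s hs]; exact Subgroup.one_mem _
  inj := by
    rintro s ⟨k, hk⟩ s' ⟨k', hk'⟩ h
    rw [s_inv s ⟨k, hk⟩] at h
    have hkk := eq_of_mul_mem_Bfull k k' s s' hk hk' (Bsub_le_Bfull h)
    apply mat_injective
    rw [hk, hk', hkk]
  closure_sup := by
    rw [Bsub_inf_Nsub]
    rfl
  mul_mem_union := fun s hs n hn b hb => mul_mem_union hXI hSG hab hdisc s hs n hn b hb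
  conj_ne := fun s hs => conj_ne hXI hSG s hs

end assembly

end Cfsg.Agent.Helper5.OmBN.Pair
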