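import Mathlib
import Cfsg.Agent.Helper5.OmBN.Defs
import Cfsg.Agent.Helper63.OpBNNORMIDX
import Cfsg.Agent.Helper10.OmBNBF
import Cfsg.Agent.Helper10.OmBNCCT
import Cfsg.Agent.Helper12.OmBNRED
import Cfsg.Agent.Helper12.OmBNSTEP2I
import Cfsg.Agent.Helper55.OmBNCCS
import Cfsg.Agent.Helper55.OmBNL2
import Cfsg.Agent.Helper60.OmBNL1
import Cfsg.Agent.Helper60.OmBNSTEP2V
import Cfsg.Agent.Helper72.OmBNCCB
import Cfsg.Agent.Helper72.OmBNSTEP1
import Cfsg.Agent.Helper89.OmBNO2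
import Cfsg.Agent.Helper89.OmBNSTEP0

/-!
# For S2549: the isometry group is generated by `G1 = ⟨B, N⟩` and the conjugation `cc` of the middle
plane; hence the commutator subgroup lies in `G1` (helper5)
-/

set_option autoImplicit false

namespace Cfsg.Agent.Helper5.OmBN.Gen

open Matrix Cfsg.Agent.Helper5.OmBN

variable {F : Type*} [Field F] {m : ℕ} {α β : F}

/-! ### pieces: generation -/

/-- (L1) an isometry whose first `m` columns are upper triangular is block upper triangular -/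
theorem Pj_half_subset_Bfull (g : OG m α β) (hg : g ∈ Pj m) : g ∈ Bfull m α β :=
  Cfsg.Agent.Helper60.OmBN.Pj_half_subset_Bfull g hg

/-- (STEP0) the last nonzero coordinate of a singular vector is not in the middle (anisotropy) -/
theorem step_middle (hab : ∀ z₁ z₂ : F, Nf α β z₁ z₂ = 0 → z₁ = 0 ∧ z₂ = 0)
    (v : Fin (2 * m + 2) → F) (hv : Qm α β v = 0)
    (hvA : ∀ r : Fin (2 * m + 2), m + 1 < r.val → v r = 0) : v c1 = 0 ∧ v c2 = 0 :=
  Cfsg.Agent.Helper89.OmBN.step_middle hab v hv hvA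

/-- (STEP1) the last nonzero coordinate `A` is in the left part: use `x ∈ X_{A-1}` and `s_{A-1}` -/
theorem step_first (hXI : HasXI m α β) (hS : HasS m α β)
    (j A : ℕ) (hjA : j < A) (hA : A < m) (v : Fin (2 * m + 2) → F)
    (hvA : ∀ r : Fin (2 * m + 2), A < r.val → v r = 0) (a : Fin (2 * m + 2)) (ha : a.val = A)
    (hva : v a ≠ 0) :
    ∃ h ∈ G1 m α β, Fixj j h ∧ ∀ r : Fin (2 * m + 2), A ≤ r.val → (mat h *ᵥ v) r = 0 :=
  Cfsg.Agent.Helper72.OmBN.step_first hXI hS j A hjA hA v hvA a ha hva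

/-- (STEP2-I) the last nonzero coordinate `A` is in the right part, `A > m + 2`: the root `k = 2m + 1 - A` is of
kind I -/
theorem step_second_I (hXI : HasXI m α β) (hS : HasS m α β)
    (j A : ℕ) (hA : A + j ≤ 2 * m + 1) (hmA : m + 2 < A) (hAn : A < 2 * m + 2)
    (v : Fin (2 * m + 2) → F)
    (hvA : ∀ r : Fin (2 * m + 2), A < r.val → v r = 0) (a : Fin (2 * m + 2)) (ha : a.val = A)
    (hva : v a ≠ 0) :
    ∃ h ∈ G1 m α β, Fixj j h ∧ ∀ r : Fin (2 * m + 2), A ≤ r.val → (mat h *ᵥ v) r = 0 :=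
  Cfsg.Agent.Helper12.OmBN.step_second_I hXI hS j A hA hmA hAn v hvA a ha hva

/-- (STEP2-V) the last nonzero coordinate is `A = m + 2`: use the Siegel element `E_{e,w}`, `e = m - 1`,
`w = v_mid / v_A`, and the reflection `s_{m-1}` -/
theorem step_second_V (hSG : HasSG m α β) (hS : HasS m α β)
    (j : ℕ) (hj : j + 1 ≤ m) (v : Fin (2 * m + 2) → F) (hv : Qm α β v = 0)
    (hvA : ∀ r : Fin (2 * m + 2), m + 2 < r.val → v r = 0) (a : Fin (2 * m + 2))
    (ha : a.val = m + 2) (hva : v a ≠ 0) :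
    ∃ h ∈ G1 m α β, Fixj j h ∧ ∀ r : Fin (2 * m + 2), m + 2 ≤ r.val → (mat h *ᵥ v) r = 0 :=
  Cfsg.Agent.Helper60.OmBN.step_second_V hSG hS j hj v hv hvA a ha hva

/-- (RED) reduction of a singular vector to the `j`-th basis vector modulo the first `j` ones -/
theorem exists_reduce
    (hstep : ∀ (j A : ℕ), j < A → A + j ≤ 2 * m + 1 → ∀ v : Fin (2 * m + 2) → F, Qm α β v = 0 →
      (∀ r : Fin (2 * m + 2), A < r.val → v r = 0) → ∀ a : Fin (2 * m + 2), a.val = A → v a ≠ 0 →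
      ∃ h ∈ G1 m α β, Fixj j h ∧ ∀ r : Fin (2 * m + 2), A ≤ r.val → (mat h *ᵥ v) r = 0)
    (j : ℕ) (hj : j < m) (v : Fin (2 * m + 2) → F) (hv : Qm α β v = 0)
    (hv0 : ∀ r : Fin (2 * m + 2), 2 * m + 1 - j < r.val → v r = 0)
    (hv1 : ∃ r : Fin (2 * m + 2), j ≤ r.val ∧ v r ≠ 0) :
    ∃ h ∈ G1 m α β, Fixj j h ∧ ∀ r : Fin (2 * m + 2), j < r.val → (mat h *ᵥ v) r = 0 :=
  Cfsg.Agent.Helper12.OmBN.exists_reduce hstep j hj v hv hv0 hv1

/-- (L2) one more column -/
theorem exists_mul_mem_Pj_succ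
    (hred : ∀ (j : ℕ), j < m → ∀ v : Fin (2 * m + 2) → F, Qm α β v = 0 →
      (∀ r : Fin (2 * m + 2), 2 * m + 1 - j < r.val → v r = 0) →
      (∃ r : Fin (2 * m + 2), j ≤ r.val ∧ v r ≠ 0) →
      ∃ h ∈ G1 m α β, Fixj j h ∧ ∀ r : Fin (2 * m + 2), j < r.val → (mat h *ᵥ v) r = 0)
    (j : ℕ) (hj : j < m) (g : OG m α β) (hg : g ∈ Pj j) :
    ∃ h ∈ G1 m α β, h * g ∈ Pj (j + 1) :=
  Cfsg.Agent.Helper55.OmBN.exists_mul_mem_Pj_succ hred j hj g hg

/-- (O2) the isometries of the binary form `Nf`: rotations and rotations composed with the conjugation -/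
theorem rot_or_rot_c0 (hdisc : 4 * β - α ^ 2 ≠ 0) (p q r s : F) (h1 : Nf α β p q = 1)
    (h2 : Nf α β r s = β) (h3 : Nb α β p q r s = α) :
    (r = -β * q ∧ s = p + α * q) ∨ (r = α * p + β * q ∧ s = -p) :=
  Cfsg.Agent.Helper89.OmBN.rot_or_rot_c0 hdisc p q r s h1 h2 h3

/-- (BF) a block upper triangular isometry is in `B` or in `B cc` -/
theorem mem_Bsub_or_mul_mem_Bsub
    (hO2 : ∀ p q r s : F, Nf α β p q = 1 → Nf α β r s = β → Nb α β p q r s = α →
      (r = -β * q ∧ s = p + α * q) ∨ (r = α * p + β * q ∧ s = -p))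
    (cc : OG m α β) (hcc : mat cc = c0Mat α) (b : OG m α β) (hb : b ∈ Bfull m α β) :
    b ∈ Bsub m α β ∨ b * cc ∈ Bsub m α β :=
  Cfsg.Agent.Helper10.OmBN.mem_Bsub_or_mul_mem_Bsub hO2 cc hcc b hb

/-- (CCB) the conjugation `cc` normalises `B` (and is block diagonal) -/
theorem cc_conj_mem_Bsub (cc : OG m α β) (hcc : mat cc = c0Mat α)
    (hcc2 : c0Mat (m := m) α * c0Mat α = 1) (b : OG m α β) (hb : b ∈ Bsub m α β) :
    cc * b * cc⁻¹ ∈ Bsub m α β :=
  Cfsg.Agent.Helper72.OmBN.cc_conj_mem_Bsub cc hcc hcc2 b hb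

/-- (CCT) the conjugation `cc` is block diagonal -/
theorem cc_mem_Tfull (cc : OG m α β) (hcc : mat cc = c0Mat α) : cc ∈ Tfull m α β :=
  Cfsg.Agent.Helper10.OmBN.cc_mem_Tfull cc hcc

/-- (CCS) the conjugation `cc` commutes with the representatives of the simple reflections -/
theorem cc_mul_comm (cc : OG m α β) (hcc : mat cc = c0Mat α) (s : OG m α β)
    (hs : s ∈ Sset m α β) : cc * s = s * cc :=
  Cfsg.Agent.Helper55.OmBN.cc_mul_comm cc hcc s hs

/-! ### assembly -/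

section assembly

variable (hXI : HasXI m α β) (hSG : HasSG m α β) (hS : HasS m α β)
  (hab : ∀ z₁ z₂ : F, Nf α β z₁ z₂ = 0 → z₁ = 0 ∧ z₂ = 0) (hdisc : 4 * β - α ^ 2 ≠ 0)

include hXI hSG hS hab in
theorem step_all (j A : ℕ) (hjA : j < A) (hA : A + j ≤ 2 * m + 1) (v : Fin (2 * m + 2) → F)
    (hv : Qm α β v = 0) (hvA : ∀ r : Fin (2 * m + 2), A < r.val → v r = 0)
    (a : Fin (2 * m + 2)) (ha : a.val = A) (hva : v a ≠ 0) :
    ∃ h ∈ G1 m α β, Fixj j h ∧ ∀ r : Fin (2 * m + 2), A ≤ r.val → (mat h *ᵥ v) r = 0 := by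
  have han := a.2
  by_cases h1 : A < m
  · exact step_first hXI hS j A hjA h1 v hvA a ha hva
  by_cases h2 : A ≤ m + 1
  · exfalso
    have h3 := step_middle hab v hv (fun r hr => hvA r (by omega))
    by_cases h4 : A = m
    · apply hva
      have : a = c1 := by rw [eq_iff_val_eq, val_c1, ha, h4]
      rw [this]
      exact h3.1
    · apply hva
      have : a = c2 := by rw [eq_iff_val_eq, val_c2, ha]; omega
      rw [this]
      exact h3.2
  by_cases h3 : A = m + 2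
  · subst h3
    exact step_second_V hSG hS j (by omega) v hv hvA a ha hva
  · exact step_second_I hXI hS j A hA (by omega) (by omega) v hvA a ha hva

include hXI hSG hS hab in
/-- every isometry is in `G1 · Bfull` -/
theorem exists_mul_mem_Bfull (g : OG m α β) : ∃ h ∈ G1 m α β, h * g ∈ Bfull m α β := by
  have key : ∀ j, j ≤ m → ∃ h ∈ G1 m α β, h * g ∈ Pj j := by
    intro j
    induction j with
    | zero =>
      intro _
      exact ⟨1, Subgroup.one_mem _, by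
        intro a b hb
        exact absurd hb (Nat.not_lt_zero _)⟩
    | succ j ih =>
      intro hj
      obtain ⟨h, hh, hhg⟩ := ih (by omega)
      obtain ⟨h', hh', hh'g⟩ := exists_mul_mem_Pj_succ
        (exists_reduce (step_all hXI hSG hS hab)) j (by omega) (h * g) hhg
      exact ⟨h' * h, Subgroup.mul_mem _ hh' hh, by rwa [mul_assoc]⟩
  obtain ⟨h, hh, hhg⟩ := key m le_rfl
  exact ⟨h, hh, Pj_half_subset_Bfull _ hhg⟩

/-- `cc` is an involution -/
theorem cc_mul_cc (cc : OG m α β) (hcc : mat cc = c0Mat α)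
    (hcc2 : c0Mat (m := m) α * c0Mat α = 1) : cc * cc = 1 := by
  apply mat_injective
  rw [mat_mul, hcc, hcc2, mat_one]

theorem cc_inv (cc : OG m α β) (hcc : mat cc = c0Mat α)
    (hcc2 : c0Mat (m := m) α * c0Mat α = 1) : cc⁻¹ = cc :=
  inv_eq_of_mul_eq_one_left (cc_mul_cc cc hcc hcc2)

/-- `cc` normalises `N` -/
theorem cc_conj_mem_Nsub (cc : OG m α β) (hcc : mat cc = c0Mat α)
    (hcc2 : c0Mat (m := m) α * c0Mat α = 1) (n : OG m α β) (hn : n ∈ Nsub m α β) :
    cc * n * cc⁻¹ ∈ Nsub m α β := by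
  unfold Nsub at hn ⊢
  rw [← Subgroup.closure_eq (Tsub m α β), ← Subgroup.closure_union] at hn
  induction hn using Subgroup.closure_induction with
  | mem y hy =>
    rcases hy with hy | hy
    · rw [cc_mul_comm cc hcc y hy, mul_assoc, mul_inv_cancel, mul_one]
      exact Subgroup.mem_sup_left (Subgroup.subset_closure hy)
    · apply Subgroup.mem_sup_right
      unfold Tsub
      refine ⟨?_, cc_conj_mem_Bsub cc hcc hcc2 y (Tsub_le_Bsub hy)⟩
      exact (Tfull m α β).mul_mem ((Tfull m α β).mul_mem (cc_mem_Tfull cc hcc) (Tsub_le_Tfull hy))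
        ((Tfull m α β).inv_mem (cc_mem_Tfull cc hcc))
  | one => rw [mul_one, mul_inv_cancel]; exact Subgroup.one_mem _
  | mul y z _ _ ihy ihz =>
    have e : cc * (y * z) * cc⁻¹ = (cc * y * cc⁻¹) * (cc * z * cc⁻¹) := by group
    rw [e]
    exact Subgroup.mul_mem _ ihy ihz
  | inv y _ ihy =>
    have e : cc * y⁻¹ * cc⁻¹ = (cc * y * cc⁻¹)⁻¹ := by group
    rw [e]
    exact Subgroup.inv_mem _ ihy

/-- `cc` normalises `G1` -/
theorem cc_conj_mem_G1 (cc : OG m α β) (hcc : mat cc = c0Mat α)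
    (hcc2 : c0Mat (m := m) α * c0Mat α = 1) (h : OG m α β) (hh : h ∈ G1 m α β) :
    cc * h * cc⁻¹ ∈ G1 m α β := by
  unfold G1 at hh ⊢
  rw [← Subgroup.closure_eq (Bsub m α β), ← Subgroup.closure_eq (Nsub m α β),
    ← Subgroup.closure_union] at hh
  induction hh using Subgroup.closure_induction with
  | mem y hy =>
    rcases hy with hy | hy
    · exact Subgroup.mem_sup_left (cc_conj_mem_Bsub cc hcc hcc2 y hy)
    · exact Subgroup.mem_sup_right (cc_conj_mem_Nsub cc hcc hcc2 y hy)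
  | one => rw [mul_one, mul_inv_cancel]; exact Subgroup.one_mem _
  | mul y z _ _ ihy ihz =>
    have e : cc * (y * z) * cc⁻¹ = (cc * y * cc⁻¹) * (cc * z * cc⁻¹) := by group
    rw [e]
    exact Subgroup.mul_mem _ ihy ihz
  | inv y _ ihy =>
    have e : cc * y⁻¹ * cc⁻¹ = (cc * y * cc⁻¹)⁻¹ := by group
    rw [e]
    exact Subgroup.inv_mem _ ihy

include hXI hSG hS hab hdisc in
/-- `G1` and `cc` generate the isometry group -/
theorem G1_sup_zpowers (cc : OG m α β) (hcc : mat cc = c0Mat α)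
    (hcc2 : c0Mat (m := m) α * c0Mat α = 1) : G1 m α β ⊔ Subgroup.zpowers cc = ⊤ := by
  rw [eq_top_iff]
  intro g _
  obtain ⟨h, hh, hhg⟩ := exists_mul_mem_Bfull hXI hSG hS hab g
  have hcc' : cc ∈ G1 m α β ⊔ Subgroup.zpowers cc :=
    (le_sup_right : Subgroup.zpowers cc ≤ _) (Subgroup.mem_zpowers cc)
  have h1 : h * g ∈ G1 m α β ⊔ Subgroup.zpowers cc := by
    rcases mem_Bsub_or_mul_mem_Bsub (fun p q r s => rot_or_rot_c0 hdisc p q r s) cc hcc (h * g) hhg
      with h' | h'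
    · exact (le_sup_left : G1 m α β ≤ _) (Bsub_le_G1 h')
    · have e : h * g = (h * g * cc) * cc⁻¹ := by group
      rw [e]
      exact Subgroup.mul_mem _ ((le_sup_left : G1 m α β ≤ _) (Bsub_le_G1 h'))
        (Subgroup.inv_mem _ hcc')
  have h2 : g = h⁻¹ * (h * g) := by group
  rw [h2]
  exact Subgroup.mul_mem _ (Subgroup.inv_mem _ ((le_sup_left : G1 m α β ≤ _) hh)) h1

include hXI hSG hS hab hdisc in
/-- **the commutator subgroup of the isometry group lies in `G1 = ⟨B, N⟩`** -/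
theorem commutator_le_G1 (cc : OG m α β) (hcc : mat cc = c0Mat α)
    (hcc2 : c0Mat (m := m) α * c0Mat α = 1) : commutator (OG m α β) ≤ G1 m α β := by
  have hr : ∀ h ∈ G1 m α β, cc * h * cc⁻¹ ∈ G1 m α β := cc_conj_mem_G1 cc hcc hcc2
  have hr' : ∀ h ∈ G1 m α β, cc⁻¹ * h * cc ∈ G1 m α β := by
    intro h hh
    have := hr h hh
    rw [cc_inv cc hcc hcc2] at this ⊢
    exact this
  exact Cfsg.Agent.Helper63.OpBN.commutator_le_of_sup_zpowers (G1 m α β) cc hr hr'
    (G1_sup_zpowers hXI hSG hS hab hdisc cc hcc hcc2)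

end assembly

end Cfsg.Agent.Helper5.OmBN.Gen
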