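import Mathlib
import Cfsg.Agent.Helper5.SuBN.GenFix
import Cfsg.Agent.Helper5.SpBN.GenMax
import Cfsg.Agent.Helper19.StBN.Abstract
import Cfsg.Agent.Helper55.SpBNP11
import Cfsg.Agent.Helper55.SpBNP13
import Cfsg.Agent.Helper55.SpBNP14
import Cfsg.Agent.Helper80.OpBNGEN1a
import Cfsg.Agent.Helper32.OpBNGEN1b
import Cfsg.Agent.Helper32.OpBNGEN1c
import Cfsg.Agent.Helper80.Pullback
import Cfsg.Agent.Helper74.DefectZero

/-!
# The Steinberg character of a finite group with a split (B,N)-pair, and its descent to a normal subgroup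
(helper5, generic; for S2549)
-/

set_option autoImplicit false

namespace Cfsg.Agent.Helper5.OmBN

open Cfsg Cfsg.Agent.Helper6 Cfsg.Agent.Helper19.Stein Cfsg.Agent.Helper19.StBN

universe u

/-- the Steinberg character of a finite group with a (B,N)-pair and root data -/
theorem steinberg_generic {G : Type u} [Group G] [Finite G] (p : ℕ) [Fact p.Prime]
    (P' : Cfsg.BNPair G) [Finite P'.S] (U T : Subgroup G) (X : P'.S → Set G)
    (hUB : U ≤ P'.B) (hTB : T ≤ P'.B)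
    (hdec : ∀ s : P'.S, ∀ b ∈ P'.B, ∃ y x : G, b = y * x ∧ s.1 * y * s.1⁻¹ ∈ P'.B ∧ x ∈ X s)
    (hXU : ∀ s : P'.S, X s ⊆ U) (hUn : ∀ b ∈ P'.B, ∀ u ∈ U, b⁻¹ * u * b ∈ U)
    (hBUT : ∀ b ∈ P'.B, ∃ u ∈ U, ∃ t ∈ T, b = u * t) (hUT : ∀ g, g ∈ U → g ∈ T → g = 1)
    (hUp : IsPGroup p U) (hTp : ¬ p ∣ Nat.card T)
    (hmax : ∀ n ∈ P'.N, (∀ s : P'.S, ¬ ∀ x ∈ X s, n * x * n⁻¹ ∈ P'.B) →
      ∀ u ∈ P'.B, (n⁻¹ * u * n ∈ P'.B ↔ u ∈ T)) :
    ∃ χ : G → ℂ, IsIrrCharacter G χ ∧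
      (∀ b : ↥P'.B, χ (b : G) = fixedPointCharacter (T.subgroupOf P'.B) b) ∧
      (∀ Q : Sylow p G, Nat.card Q = Nat.card U) ∧
      (∀ g : G, (∀ u ∈ U, g⁻¹ * u * g ∈ P'.B) → g ∈ P'.B) := by
  classical
  have : Fintype ↥P'.S := Fintype.ofFinite _
  obtain ⟨n₀, hn₀, hmaxR, hnot⟩ := Cfsg.Agent.Helper5.SpBN.exists_maxR_not_conj P' X hdec
  have hH : ∀ u ∈ P'.B, n₀⁻¹ * u * n₀ ∈ P'.B ↔ u ∈ T := hmax n₀ hn₀ hnot
  have h10 : ∀ g : G, (∀ u ∈ U, g⁻¹ * u * g ∈ P'.B) → g ∈ P'.B :=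
    fun g hg => Cfsg.Agent.Helper5.SuBN.mem_B_of_conj_gen P' X hdec U hUn hXU g hg
  have h11 : ¬ p ∣ P'.B.index :=
    Cfsg.Agent.Helper55.SpBNP11.not_dvd_index_of_fixed p U P'.B hUB hUp h10
  have hidx : (T.subgroupOf P'.B).index = Nat.card U :=
    Cfsg.Agent.Helper55.SpBNP13.index_subgroupOf_eq_card U T P'.B hUB hTB hBUT hUT
  have h13 : ∃ k : ℕ, (T.subgroupOf P'.B).index = p ^ k := by
    obtain ⟨k, hk⟩ := (IsPGroup.iff_card (p := p) (G := U)).mp hUp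
    exact ⟨k, by rw [hidx, hk]⟩
  have hsyl : ∀ Q : Sylow p G, Nat.card Q = (T.subgroupOf P'.B).index :=
    fun Q => Cfsg.Agent.Helper55.SpBNP14.card_sylow_of_chain p T P'.B hTB h11 hTp h13 Q
  refine ⟨stFun P', stFun_isIrr P' n₀ hn₀ hmaxR T hH, ?_, ?_, h10⟩
  · intro b
    exact stFun_restrict P' n₀ hn₀ hmaxR T hH b
  · intro Q
    rw [hsyl Q, hidx]

/-- the descent of a Steinberg-like character to a normal subgroup whose centre lies in `B` -/
theorem descend_generic {G : Type u} [Group G] [Finite G] (p : ℕ) [hp : Fact p.Prime]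
    (B U T N : Subgroup G) [N.Normal] (hUB : U ≤ B) (hTB : T ≤ B)
    (hBUT : ∀ b ∈ B, ∃ u ∈ U, ∃ t ∈ T, b = u * t) (hUT : ∀ g, g ∈ U → g ∈ T → g = 1)
    (χ : G → ℂ) (hχ : IsIrrCharacter G χ)
    (hres : ∀ b : ↥B, χ (b : G) = fixedPointCharacter (T.subgroupOf B) b)
    (hsyl : ∀ Q : Sylow p G, Nat.card Q = Nat.card U)
    (hZ : ∀ z : N, z ∈ Subgroup.center N → (z : G) ∈ B) :
    ∃ χ₀ : N → ℂ, IsIrrCharacter N χ₀ ∧ (∀ z ∈ Subgroup.center N, χ₀ z = χ₀ 1) ∧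
      (∀ Q : Sylow p N, χ₀ 1 = Nat.card Q) ∧ ¬ p ∣ Nat.card (Subgroup.center N) := by
  classical
  have : Fintype G := Fintype.ofFinite _
  have : Fintype N := Fintype.ofFinite _
  -- the degree
  have h1 : χ 1 = (Nat.card U : ℂ) := by
    have h := hres 1
    rw [Cfsg.Agent.Helper19.Stein.fixedPointCharacter_one,
      Cfsg.Agent.Helper55.SpBNP13.index_subgroupOf_eq_card U T B hUB hTB hBUT hUT] at h
    exact h
  have hdeg : ∀ Q : Sylow p G, χ 1 = Nat.card Q := fun Q => by rw [h1, hsyl Q]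
  set ψ : N → ℂ := fun x : N => χ x with hψdef
  have hψ : IsCharacter N ψ :=
    Cfsg.Agent.Helper74.isCharacter_restrict N (Cfsg.Agent.Helper74.isCharacter_of_isIrr hχ)
  have hψ1 : ψ 1 ≠ 0 := by
    show χ ((1 : N) : G) ≠ 0
    rw [Subgroup.coe_one, h1]
    exact_mod_cast (Nat.card_pos (α := U)).ne'
  have hnn : ∀ a ∈ Subgroup.center N, ∃ r : ℕ, ψ a = r := by
    intro a ha
    have hB : (a : G) ∈ B := hZ a ha
    refine ⟨Nat.card (MulAction.fixedBy (↥B ⧸ T.subgroupOf B) (⟨a, hB⟩ : ↥B)), ?_⟩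
    exact hres ⟨a, hB⟩
  obtain ⟨θ, hθ, hcon, htriv⟩ :=
    Cfsg.Agent.Helper32.OpBN.exists_constituent_trivial_on ψ hψ hψ1 (Subgroup.center N) le_rfl hnn
  have hdegθ := Cfsg.Agent.Helper80.OpBN.constituent_degree p N χ hχ hdeg θ hθ hcon
  exact ⟨θ, hθ, htriv, hdegθ,
    Cfsg.Agent.Helper32.OpBN.not_dvd_card_of_trivial_on p θ hθ hdegθ (Subgroup.center N) htriv⟩

/-- transport along an isomorphism and descent to the central quotient -/
theorem steinberg_of_mulEquiv {G H : Type*} [Group G] [Group H] [Finite G] (e : G ≃* H)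
    (p : ℕ) [hp : Fact p.Prime]
    (h : ∃ χ : G → ℂ, IsIrrCharacter G χ ∧ (∀ z ∈ Subgroup.center G, χ z = χ 1) ∧
      (∀ Q : Sylow p G, χ 1 = Nat.card Q) ∧ ¬ p ∣ Nat.card (Subgroup.center G)) :
    ∃ χ : H ⧸ Subgroup.center H → ℂ, IsIrrCharacter (H ⧸ Subgroup.center H) χ ∧
      ∀ P : Sylow p (H ⧸ Subgroup.center H), χ 1 = Nat.card P ∧
        ∀ x : H ⧸ Subgroup.center H, x ∈ P → x ≠ 1 → χ x = 0 := by
  classical
  have : Finite H := Finite.of_equiv G e.toEquiv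
  have : Fintype (H ⧸ Subgroup.center H) := Fintype.ofFinite _
  obtain ⟨χ, hχ, hcent, hdeg, hz⟩ := h
  let f : G →* H ⧸ Subgroup.center H := (QuotientGroup.mk' (Subgroup.center H)).comp e.toMonoidHom
  have hf : Function.Surjective f :=
    (QuotientGroup.mk'_surjective _).comp e.surjective
  have hker : ∀ g : G, f g = 1 → g ∈ Subgroup.center G := by
    intro g hg
    have h1 : e g ∈ Subgroup.center H := by
      have : (QuotientGroup.mk' (Subgroup.center H)) (e g) = 1 := hg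
      rwa [QuotientGroup.mk'_apply, QuotientGroup.eq_one_iff] at this
    rw [Subgroup.mem_center_iff] at h1 ⊢
    intro x
    apply e.injective
    rw [map_mul, map_mul]
    exact h1 (e x)
  obtain ⟨ψ, hψ, hval⟩ := Cfsg.Agent.Helper80.IsIrrCharacter.exists_descend hχ f hf
    (fun g hg => hcent g (hker g hg))
  refine ⟨ψ, hψ, fun P => ?_⟩
  obtain ⟨Q⟩ : Nonempty (Sylow p G) := inferInstance
  -- cardinalities
  have hcardGH : Nat.card G = Nat.card H := Nat.card_congr e.toEquiv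
  have hcen : Nat.card (Subgroup.center G) = Nat.card (Subgroup.center H) := by
    apply Nat.card_congr
    exact (Subgroup.centerCongr e).toEquiv
  have hPQ : Nat.card P = Nat.card Q := by
    rw [Sylow.card_eq_multiplicity, Sylow.card_eq_multiplicity]
    have h1 := Subgroup.card_eq_card_quotient_mul_card_subgroup (Subgroup.center H)
    have hzH : ¬ p ∣ Nat.card (Subgroup.center H) := by rwa [← hcen]
    rw [hcardGH, h1, Nat.factorization_mul Nat.card_pos.ne' Nat.card_pos.ne', Finsupp.add_apply,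
      Nat.factorization_eq_zero_of_not_dvd hzH, add_zero]
  have h1' : ψ 1 = (Nat.card P : ℂ) := by
    have h := hval 1
    rw [map_one] at h
    rw [← h, hdeg Q, hPQ]
  refine ⟨h1', fun x hx hx1 => ?_⟩
  have hdeg' : charDegree ψ = Nat.card P := by
    have := Cfsg.Agent.Helper74.charDegree_cast (Cfsg.Agent.Helper74.isCharacter_of_isIrr hψ)
    rw [h1'] at this
    exact_mod_cast this
  have hdiv : p ^ (Nat.card (H ⧸ Subgroup.center H)).factorization p ∣ charDegree ψ := by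
    rw [hdeg', Sylow.card_eq_multiplicity]
  have hy : p ∣ orderOf x := by
    obtain ⟨k, hk⟩ := (IsPGroup.iff_orderOf.1 P.isPGroup') ⟨x, hx⟩
    rw [Subgroup.orderOf_mk] at hk
    rw [hk]
    have hk0 : k ≠ 0 := by
      rintro rfl
      rw [pow_zero, orderOf_eq_one_iff] at hk
      exact hx1 hk
    exact dvd_pow_self p hk0
  exact Cfsg.Agent.Helper74.irr_eq_zero_of_defect_zero ⟨ψ, hψ⟩ hp.out hdiv x hy

end Cfsg.Agent.Helper5.OmBN
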