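import Mathlib
import Cfsg.Agent.Helper5.OmBN.Defs
import Cfsg.Agent.Helper5.OmBN.Pair
import Cfsg.Agent.Helper5.OmBN.Gen
import Cfsg.Agent.Helper5.OmBN.Generic
import Cfsg.Agent.Helper12.GFE
import Cfsg.Agent.Helper10.OmBNMXb
import Cfsg.Agent.Helper29.OmBNBUT
import Cfsg.Agent.Helper29.OmBNP12
import Cfsg.Agent.Helper32.OmBNDISC
import Cfsg.Agent.Helper32.OmBNTRF
import Cfsg.Agent.Helper65.OmBNP9
import Cfsg.Agent.Helper65.OmBNUN
import Cfsg.Agent.Helper69.OmBNOMI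
import Cfsg.Agent.Helper69.OmBNROTSG
import Cfsg.Agent.Helper70.OmBNCOMSG
import Cfsg.Agent.Helper70.OmBNOMV

/-!
# For S2549: the Steinberg character of `G1`, its descent to `Ω` and to `PΩ` (helper5)
-/

set_option autoImplicit false

namespace Cfsg.Agent.Helper5.OmBN.Main

open Matrix Cfsg Cfsg.Agent.Helper5.OmBN Cfsg.Agent.Helper5.OmBN.Pair Cfsg.Agent.Helper5.OmBN.Gen
open Cfsg.Agent.Helper19.OpBN

variable {F : Type*} [Field F] {m : ℕ} {α β : F}

/-! ### pieces -/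

/-- (MXb) a block monomial element moving every root group out of `B` reverses the order of the blocks -/
theorem conj_mem_Bsub_iff_of_not (n : OG m α β) (hn : n ∈ Mono1 m α β)
    (hT : ∀ t ∈ Tsub m α β, n⁻¹ * t * n ∈ Tsub m α β)
    (h : ∀ k : Fin m, ¬ ∀ x ∈ Xset α β k, n * x * n⁻¹ ∈ Bsub m α β) (u : OG m α β)
    (hu : u ∈ Bsub m α β) : n⁻¹ * u * n ∈ Bsub m α β ↔ u ∈ Tsub m α β :=
  Cfsg.Agent.Helper10.OmBN.conj_mem_Bsub_iff_of_not n hn hT h u hu

/-- (BUT) `B = U T` -/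
theorem exists_Usub_mul_Tsub (b : OG m α β) (hb : b ∈ Bsub m α β) :
    ∃ u ∈ Usub m α β, ∃ t ∈ Tsub m α β, b = u * t :=
  Cfsg.Agent.Helper29.OmBN.exists_Usub_mul_Tsub b hb

/-- (UN) `U` is normal in `B` -/
theorem conj_mem_Usub (b : OG m α β) (hb : b ∈ Bsub m α β) (u : OG m α β) (hu : u ∈ Usub m α β) :
    b⁻¹ * u * b ∈ Usub m α β :=
  Cfsg.Agent.Helper65.OmBN.conj_mem_Usub b hb u hu

/-- (P9) `U` is a `p`-group -/
theorem Usub_isPGroup (p : ℕ) [Fact p.Prime] [CharP F p] : IsPGroup p (Usub m α β) :=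
  Cfsg.Agent.Helper65.OmBN.Usub_isPGroup p

/-- (P12) the order of the torus is prime to `p` -/
theorem not_dvd_card_Tsub [Fintype F] (p : ℕ) [Fact p.Prime] [CharP F p]
    (hab : ∀ z₁ z₂ : F, Nf α β z₁ z₂ = 0 → z₁ = 0 ∧ z₂ = 0) :
    ¬ p ∣ Nat.card (Tsub m α β) :=
  Cfsg.Agent.Helper29.OmBN.not_dvd_card_Tsub p hab

/-- (ROTSG) a rotation of norm one conjugates `E_{e,w}` to `E_{e,Rw}` -/
theorem rotMat_mul_sgMat (x y : F) (h : Nf α β x y = 1) (e : Fin (2 * m + 2)) (he1 : e ≠ c1)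
    (he2 : e ≠ c2) (w1 w2 : F) :
    rotMat α β x y * sgMat α β e w1 w2 =
      sgMat α β e (x * w1 - β * y * w2) (y * w1 + (x + α * y) * w2) * rotMat α β x y :=
  Cfsg.Agent.Helper69.OmBN.rotMat_mul_sgMat x y h e he1 he2 w1 w2

/-- (COMSG) the commutator of two Siegel elements is a root element of kind I -/
theorem sgMat_comm (e f : Fin (2 * m + 2)) (he1 : e ≠ c1) (he2 : e ≠ c2) (hf1 : f ≠ c1) (hf2 : f ≠ c2)
    (hef : e ≠ f) (hef' : e ≠ Fin.rev f) (z1 z2 v1 v2 : F) :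
    sgMat α β e z1 z2 * sgMat α β f v1 v2 * sgMat α β e (-z1) (-z2) * sgMat α β f (-v1) (-v2) =
      xMat e (Fin.rev f) (-(Nb α β z1 z2 v1 v2)) :=
  Cfsg.Agent.Helper70.OmBN.sgMat_comm e f he1 he2 hf1 hf2 hef hef' z1 z2 v1 v2

/-- (OMV) the root elements of kind V are commutators -/
theorem XsetV_subset_commutator (hSG : HasSG m α β) (hRot : HasRot m α β)
    (hRS : ∀ (x y : F), Nf α β x y = 1 → ∀ (e : Fin (2 * m + 2)), e ≠ c1 → e ≠ c2 → ∀ (w1 w2 : F),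
      rotMat α β x y * sgMat α β e w1 w2 =
        sgMat α β e (x * w1 - β * y * w2) (y * w1 + (x + α * y) * w2) * rotMat α β x y)
    (hSM : ∀ (e : Fin (2 * m + 2)), e ≠ c1 → e ≠ c2 → ∀ (w1 w2 v1 v2 : F),
      sgMat α β e w1 w2 * sgMat α β e v1 v2 = sgMat α β e (w1 + v1) (w2 + v2))
    (hab : ∀ z₁ z₂ : F, Nf α β z₁ z₂ = 0 → z₁ = 0 ∧ z₂ = 0) (hdisc : 4 * β - α ^ 2 ≠ 0)
    (k : Fin m) (hk : k.val + 1 = m) :
    Xset α β k ⊆ ((commutator (OG m α β) : Subgroup (OG m α β)) : Set (OG m α β)) :=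
  Cfsg.Agent.Helper70.OmBN.XsetV_subset_commutator hSG hRot hRS hSM hab hdisc k hk

/-- (OMI) the root elements of kind I are commutators -/
theorem XsetI_subset_commutator (hSG : HasSG m α β)
    (hCS : ∀ (e f : Fin (2 * m + 2)), e ≠ c1 → e ≠ c2 → f ≠ c1 → f ≠ c2 → e ≠ f → e ≠ Fin.rev f →
      ∀ (z1 z2 v1 v2 : F),
      sgMat α β e z1 z2 * sgMat α β f v1 v2 * sgMat α β e (-z1) (-z2) * sgMat α β f (-v1) (-v2) =
        xMat e (Fin.rev f) (-(Nb α β z1 z2 v1 v2)))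
    (hSM : ∀ (e : Fin (2 * m + 2)), e ≠ c1 → e ≠ c2 → ∀ (w1 w2 v1 v2 : F),
      sgMat α β e w1 w2 * sgMat α β e v1 v2 = sgMat α β e (w1 + v1) (w2 + v2))
    (hS0 : ∀ (e : Fin (2 * m + 2)), sgMat α β e 0 0 = 1)
    (hdisc : 4 * β - α ^ 2 ≠ 0) (k : Fin m) (hk : k.val + 1 < m) :
    Xset α β k ⊆ ((commutator (OG m α β) : Subgroup (OG m α β)) : Set (OG m α β)) :=
  Cfsg.Agent.Helper69.OmBN.XsetI_subset_commutator hSG hCS hSM hS0 hdisc k hk

/-- (DISC) an anisotropic binary form over a finite field is non-degenerate -/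
theorem disc_ne_zero [Finite F] (hab : ∀ z₁ z₂ : F, Nf α β z₁ z₂ = 0 → z₁ = 0 ∧ z₂ = 0) :
    4 * β - α ^ 2 ≠ 0 :=
  Cfsg.Agent.Helper32.OmBN.disc_ne_zero hab

/-- (TRF) the isometry group of the form of the Prelude is isomorphic to `OG m a b` -/
theorem nonempty_mulEquiv_isometry (m : ℕ) (a b : F) :
    Nonempty (↥(Cfsg.isometryGroup F (Cfsg.quadFormMinus m F a b)) ≃* OG m a b) :=
  Cfsg.Agent.Helper32.OmBN.nonempty_mulEquiv_isometry m a b

/-! ### assembly -/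

theorem Usub_inf_Tsub (g : OG m α β) (hU : g ∈ Usub m α β) (hT : g ∈ Tsub m α β) : g = 1 := by
  apply mat_injective
  ext r s
  rw [mat_one, Matrix.one_apply]
  by_cases hrs : pos r = pos s
  · exact ((mem_Usub_iff g).1 hU).2 r s hrs
  · rw [((mem_Tsub_iff g).1 hT).1 r s hrs, if_neg]
    intro h
    exact hrs (by rw [h])

theorem sMat_injective : Function.Injective (sMat (m := m) (F := F) α) := by
  intro k k' h
  obtain ⟨s, hs⟩ := hasS (α := α) (β := α) k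
  have hs' : mat s = sMat α k' := by rw [hs, h]
  apply eq_of_mul_mem_Bfull k k' s s hs hs'
  rw [s_mul_s s ⟨k, hs⟩]
  exact Subgroup.one_mem _

theorem finite_Sset : Finite ↥(Sset m α β) := by
  classical
  let f : ↥(Sset m α β) → Fin m := fun s => Classical.choose s.2
  have hf : ∀ s : ↥(Sset m α β), mat s.1 = sMat α (f s) := fun s => Classical.choose_spec s.2
  apply Finite.of_injective f
  intro s s' h
  apply Subtype.ext
  apply mat_injective
  rw [hf s, hf s', h]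

/-- the root elements are commutators -/
theorem Xset_subset_commutator (hab : ∀ z₁ z₂ : F, Nf α β z₁ z₂ = 0 → z₁ = 0 ∧ z₂ = 0)
    (hdisc : 4 * β - α ^ 2 ≠ 0) (k : Fin m) :
    Xset α β k ⊆ ((commutator (OG m α β) : Subgroup (OG m α β)) : Set (OG m α β)) := by
  have hk := k.2
  rcases Nat.lt_or_ge (k.val + 1) m with h | h
  · exact XsetI_subset_commutator hasSG (fun e f he1 he2 hf1 hf2 hef hef' z1 z2 v1 v2 =>
      sgMat_comm e f he1 he2 hf1 hf2 hef hef' z1 z2 v1 v2)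
      (fun e he1 he2 w1 w2 v1 v2 => sgMat_mul e he1 he2 w1 w2 v1 v2) (fun e => sgMat_zero e)
      hdisc k h
  · exact XsetV_subset_commutator hasSG hasRot
      (fun x y h e he1 he2 w1 w2 => rotMat_mul_sgMat x y h e he1 he2 w1 w2)
      (fun e he1 he2 w1 w2 v1 v2 => sgMat_mul e he1 he2 w1 w2 v1 v2) hab hdisc k (by omega)

section

variable [Fintype F] (hab : ∀ z₁ z₂ : F, Nf α β z₁ z₂ = 0 → z₁ = 0 ∧ z₂ = 0)

instance : Finite (OG m α β) := inferInstance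

include hab in
/-- the Steinberg character of the commutator subgroup of `OG m α β` -/
theorem steinberg_commutator (p : ℕ) [Fact p.Prime] [CharP F p] :
    ∃ χ₀ : ↥(commutator (OG m α β)) → ℂ, IsIrrCharacter ↥(commutator (OG m α β)) χ₀ ∧
      (∀ z ∈ Subgroup.center ↥(commutator (OG m α β)), χ₀ z = χ₀ 1) ∧
      (∀ Q : Sylow p ↥(commutator (OG m α β)), χ₀ 1 = Nat.card Q) ∧
      ¬ p ∣ Nat.card (Subgroup.center ↥(commutator (OG m α β))) := by
  classical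
  have hdisc : 4 * β - α ^ 2 ≠ 0 := disc_ne_zero hab
  have hXI : HasXI m α β := hasXI
  have hSG : HasSG m α β := hasSG
  have hS : HasS m α β := hasS
  obtain ⟨cc, hcc⟩ : ∃ cc : OG m α β, mat cc = c0Mat α := exists_of_isO c0Mat_isO c0Mat_mul_self
  -- the (B,N)-pair
  set D : BNData (OG m α β) := bnData hXI hSG hab hdisc with hD
  have hDG : D.G = G1 m α β := rfl
  have hΩG : commutator (OG m α β) ≤ D.G :=
    commutator_le_G1 hXI hSG hS hab hdisc cc hcc c0Mat_mul_self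
  set P' : Cfsg.BNPair ↥D.G := D.toBNPair with hP'
  have hPB : ∀ x : ↥D.G, x ∈ P'.B ↔ (x : OG m α β) ∈ Bsub m α β := fun x => Subgroup.mem_subgroupOf
  have hPN : ∀ x : ↥D.G, x ∈ P'.N ↔ (x : OG m α β) ∈ Nsub m α β := fun x => Subgroup.mem_subgroupOf
  have hBG : Bsub m α β ≤ D.G := D.B_le
  have hNG : Nsub m α β ≤ D.G := D.N_le
  have : Finite ↥P'.S := by
    have : Finite ↥(Sset m α β) := finite_Sset
    apply Finite.of_injective (fun s : ↥P'.S => (⟨(s.1 : OG m α β), s.2⟩ : ↥(Sset m α β)))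
    intro s s' h
    apply Subtype.ext
    apply Subtype.ext
    exact congrArg (fun x : ↥(Sset m α β) => (x : OG m α β)) h
  -- the index of a reflection
  let kOf : ↥P'.S → Fin m := fun s => Classical.choose s.2
  have hkOf : ∀ s : ↥P'.S, mat (s.1 : OG m α β) = sMat α (kOf s) := fun s => Classical.choose_spec s.2
  let X : ↥P'.S → Set ↥D.G := fun s => {x | (x : OG m α β) ∈ Xset α β (kOf s)}
  let U' : Subgroup ↥D.G := (Usub m α β).subgroupOf D.G
  let T' : Subgroup ↥D.G := (Tsub m α β).subgroupOf D.G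
  have hUB : U' ≤ P'.B := fun x hx => (hPB x).2 (Usub_le_Bsub (Subgroup.mem_subgroupOf.1 hx))
  have hTB : T' ≤ P'.B := fun x hx => (hPB x).2 (Tsub_le_Bsub (Subgroup.mem_subgroupOf.1 hx))
  have hdec : ∀ s : ↥P'.S, ∀ b ∈ P'.B, ∃ y x : ↥D.G, b = y * x ∧ s.1 * y * s.1⁻¹ ∈ P'.B ∧ x ∈ X s := by
    intro s b hb
    obtain ⟨y, x, hbyx, hy, hx⟩ := exists_factor hXI hSG hdisc (kOf s) (s.1 : OG m α β) (hkOf s)
      (b : OG m α β) ((hPB b).1 hb)
    have hxG : x ∈ D.G := hBG (Usub_le_Bsub (Xset_subset_Usub _ hx))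
    have hyG : y ∈ D.G := by
      have e : y = (b : OG m α β) * x⁻¹ := by rw [hbyx]; group
      rw [e]
      exact D.G.mul_mem b.2 (D.G.inv_mem hxG)
    refine ⟨⟨y, hyG⟩, ⟨x, hxG⟩, Subtype.ext hbyx, (hPB _).2 hy, hx⟩
  have hXU : ∀ s : ↥P'.S, X s ⊆ U' := fun s x hx =>
    Subgroup.mem_subgroupOf.2 (Xset_subset_Usub _ hx)
  have hUn : ∀ b ∈ P'.B, ∀ u ∈ U', b⁻¹ * u * b ∈ U' := fun b hb u hu =>
    Subgroup.mem_subgroupOf.2 (conj_mem_Usub _ ((hPB b).1 hb) _ (Subgroup.mem_subgroupOf.1 hu))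
  have hBUT : ∀ b ∈ P'.B, ∃ u ∈ U', ∃ t ∈ T', b = u * t := by
    intro b hb
    obtain ⟨u, hu, t, ht, he⟩ := exists_Usub_mul_Tsub (b : OG m α β) ((hPB b).1 hb)
    exact ⟨⟨u, hBG (Usub_le_Bsub hu)⟩, Subgroup.mem_subgroupOf.2 hu,
      ⟨t, hBG (Tsub_le_Bsub ht)⟩, Subgroup.mem_subgroupOf.2 ht, Subtype.ext he⟩
  have hUT : ∀ g, g ∈ U' → g ∈ T' → g = 1 := fun g hu ht =>
    Subtype.ext (Usub_inf_Tsub _ (Subgroup.mem_subgroupOf.1 hu) (Subgroup.mem_subgroupOf.1 ht))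
  have hUp : IsPGroup p U' := (Usub_isPGroup (m := m) (α := α) (β := β) p).comap_subtype
  have hTp : ¬ p ∣ Nat.card T' := by
    have e : Nat.card T' = Nat.card (Tsub m α β) :=
      Nat.card_congr (Subgroup.subgroupOfEquivOfLe (Tsub_le_Bsub.trans hBG)).toEquiv
    rw [e]
    exact not_dvd_card_Tsub p hab
  have hmax : ∀ n ∈ P'.N, (∀ s : ↥P'.S, ¬ ∀ x ∈ X s, n * x * n⁻¹ ∈ P'.B) →
      ∀ u ∈ P'.B, (n⁻¹ * u * n ∈ P'.B ↔ u ∈ T') := by
    intro n hn hnot u hu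
    have hnN : (n : OG m α β) ∈ Nsub m α β := (hPN n).1 hn
    have h1 : ∀ k : Fin m, ¬ ∀ x ∈ Xset α β k, (n : OG m α β) * x * (n : OG m α β)⁻¹ ∈ Bsub m α β := by
      intro k hk
      obtain ⟨s, hs⟩ := hS k
      have hsS : s ∈ Sset m α β := ⟨k, hs⟩
      have hsG : s ∈ D.G := hNG (Sset_subset_Nsub hsS)
      let s' : ↥P'.S := ⟨⟨s, hsG⟩, hsS⟩
      have hkk : kOf s' = k := sMat_injective ((hkOf s').symm.trans hs)
      apply hnot s'
      intro x hx
      have hx' : (x : OG m α β) ∈ Xset α β k := by rw [← hkk]; exact hx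
      exact (hPB _).2 (hk _ hx')
    have h2 := conj_mem_Bsub_iff_of_not (n : OG m α β) (Nsub_le_Mono1 hnN)
      (fun t ht => (conj_mem_Tsub _ hnN t ht).2) h1 (u : OG m α β) ((hPB u).1 hu)
    rw [hPB]
    exact h2.trans Subgroup.mem_subgroupOf.symm
  obtain ⟨χ, hχ, hres, hsyl, -⟩ := steinberg_generic p P' U' T' X hUB hTB hdec hXU hUn hBUT hUT
    hUp hTp hmax
  -- the commutator subgroup
  let N : Subgroup ↥D.G := (commutator (OG m α β)).subgroupOf D.G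
  have hNn : N.Normal := inferInstance
  have hZ : ∀ z : N, z ∈ Subgroup.center N → (z : ↥D.G) ∈ P'.B := by
    intro z hz
    let U'' : Subgroup ↥D.G := U' ⊓ N
    apply Cfsg.Agent.Helper5.SuBN.mem_B_of_conj_gen P' X hdec U''
    · intro b hb u hu
      refine ⟨hUn b hb u hu.1, ?_⟩
      have := hNn.conj_mem u hu.2 b⁻¹
      rwa [inv_inv] at this
    · intro s x hx
      exact ⟨hXU s hx, Subgroup.mem_subgroupOf.2 (Xset_subset_commutator hab hdisc _ hx)⟩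
    · intro u hu
      have hc := Subgroup.mem_center_iff.mp hz ⟨u, hu.2⟩
      have hc' : u * (z : ↥D.G) = (z : ↥D.G) * u := congrArg Subtype.val hc
      rw [mul_assoc, hc', ← mul_assoc, inv_mul_cancel, one_mul]
      exact hUB hu.1
  obtain ⟨χ₀, h1, h2, h3, h4⟩ := descend_generic p P'.B U' T' N hUB hTB hBUT hUT χ hχ hres hsyl hZ
  -- transport to the commutator subgroup itself
  let e : ↥N ≃* ↥(commutator (OG m α β)) := Subgroup.subgroupOfEquivOfLe hΩG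
  refine ⟨fun x => χ₀ (e.symm x), ?_, ?_, ?_, ?_⟩
  · exact Cfsg.Agent.Helper80.IsIrrCharacter.comp_surjective h1 e.symm.toMonoidHom e.symm.surjective
  · intro z hz
    have hz' : e.symm z ∈ Subgroup.center ↥N := by
      rw [Subgroup.mem_center_iff] at hz ⊢
      intro g
      apply e.injective
      rw [map_mul, map_mul, e.apply_symm_apply]
      exact hz (e g)
    show χ₀ (e.symm z) = χ₀ (e.symm 1)
    rw [map_one]
    exact h2 _ hz'
  · intro Q
    show χ₀ (e.symm 1) = _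
    rw [map_one]
    obtain ⟨Q'⟩ : Nonempty (Sylow p ↥N) := inferInstance
    rw [h3 Q', Sylow.card_eq_multiplicity, Sylow.card_eq_multiplicity, Nat.card_congr e.toEquiv]
  · rw [← Nat.card_congr (Subgroup.centerCongr e).toEquiv]
    exact h4

end

end Cfsg.Agent.Helper5.OmBN.Main
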