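import Mathlib
import Cfsg.Agent.Helper5.OmBN.Main

/-!
# Corollaries of the S2549 assembly: `Usub` has the order of a Sylow `p`-subgroup of `G1`, and the commutator
subgroup of the isometry group lies in `G1` (helper5; for helper13's piece (OM) of S4625)
-/

set_option autoImplicit false

namespace Cfsg.Agent.Helper5.OmBN.Syl

open Matrix Cfsg Cfsg.Agent.Helper5.OmBN Cfsg.Agent.Helper5.OmBN.Pair Cfsg.Agent.Helper5.OmBN.Gen
open Cfsg.Agent.Helper5.OmBN.Main Cfsg.Agent.Helper19.OpBN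

variable {F : Type*} [Field F] {m : ℕ} {α β : F}

section

variable [Fintype F] (hab : ∀ z₁ z₂ : F, Nf α β z₁ z₂ = 0 → z₁ = 0 ∧ z₂ = 0)

include hab in
/-- the commutator subgroup of the isometry group lies in `G1 = ⟨B, N⟩` -/
theorem commutator_le_G1' : commutator (OG m α β) ≤ G1 m α β := by
  have hdisc : 4 * β - α ^ 2 ≠ 0 := disc_ne_zero hab
  obtain ⟨cc, hcc⟩ : ∃ cc : OG m α β, mat cc = c0Mat α := exists_of_isO c0Mat_isO c0Mat_mul_self
  exact commutator_le_G1 hasXI hasSG hasS hab hdisc cc hcc c0Mat_mul_self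

omit [Fintype F] in
theorem Usub_le_G1 : Usub m α β ≤ G1 m α β := Usub_le_Bsub.trans Bsub_le_G1

include hab in
/-- the order of a Sylow `p`-subgroup of `G1` is the order of `Usub` -/
theorem card_sylow_G1 (p : ℕ) [Fact p.Prime] [CharP F p] (Q : Sylow p ↥(G1 m α β)) :
    Nat.card Q = Nat.card (Usub m α β) := by
  classical
  have hdisc : 4 * β - α ^ 2 ≠ 0 := disc_ne_zero hab
  have hXI : HasXI m α β := hasXI
  have hSG : HasSG m α β := hasSG
  have hS : HasS m α β := hasS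
  obtain ⟨cc, hcc⟩ : ∃ cc : OG m α β, mat cc = c0Mat α := exists_of_isO c0Mat_isO c0Mat_mul_self
  -- the (B,N)-pair
  set D : BNData (OG m α β) := bnData hXI hSG hab hdisc with hD
  have hDG : D.G = G1 m α β := rfl
  have hΩG : commutator (OG m α β) ≤ D.G :=
    commutator_le_G1 hXI hSG hS hab hdisc cc hcc c0Mat_mul_self
  set P' : Cfsg.BNPair ↥D.G := D.toBNPair with hP'
  have hPB : ∀ x : ↥D.G, x ∈ P'.B ↔ (x : OG m α β) ∈ Bsub m α β := fun x => Subgroup.mem_subgroupOf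
  have hPN : ∀ x : ↥D.G, x ∈ P'.N ↔ (x : OG m α β) ∈ Nsub m α β := fun x => Subgroup.mem_subgroupOf
  have hBG : Bsub m α β ≤ D.G := D.B_le
  have hNG : Nsub m α β ≤ D.G := D.N_le
  have : Finite ↥P'.S := by
    have : Finite ↥(Sset m α β) := finite_Sset
    apply Finite.of_injective (fun s : ↥P'.S => (⟨(s.1 : OG m α β), s.2⟩ : ↥(Sset m α β)))
    intro s s' h
    apply Subtype.ext
    apply Subtype.ext
    exact congrArg (fun x : ↥(Sset m α β) => (x : OG m α β)) h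
  -- the index of a reflection
  let kOf : ↥P'.S → Fin m := fun s => Classical.choose s.2
  have hkOf : ∀ s : ↥P'.S, mat (s.1 : OG m α β) = sMat α (kOf s) := fun s => Classical.choose_spec s.2
  let X : ↥P'.S → Set ↥D.G := fun s => {x | (x : OG m α β) ∈ Xset α β (kOf s)}
  let U' : Subgroup ↥D.G := (Usub m α β).subgroupOf D.G
  let T' : Subgroup ↥D.G := (Tsub m α β).subgroupOf D.G
  have hUB : U' ≤ P'.B := fun x hx => (hPB x).2 (Usub_le_Bsub (Subgroup.mem_subgroupOf.1 hx))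
  have hTB : T' ≤ P'.B := fun x hx => (hPB x).2 (Tsub_le_Bsub (Subgroup.mem_subgroupOf.1 hx))
  have hdec : ∀ s : ↥P'.S, ∀ b ∈ P'.B, ∃ y x : ↥D.G, b = y * x ∧ s.1 * y * s.1⁻¹ ∈ P'.B ∧ x ∈ X s := by
    intro s b hb
    obtain ⟨y, x, hbyx, hy, hx⟩ := exists_factor hXI hSG hdisc (kOf s) (s.1 : OG m α β) (hkOf s)
      (b : OG m α β) ((hPB b).1 hb)
    have hxG : x ∈ D.G := hBG (Usub_le_Bsub (Xset_subset_Usub _ hx))
    have hyG : y ∈ D.G := by
      have e : y = (b : OG m α β) * x⁻¹ := by rw [hbyx]; group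
      rw [e]
      exact D.G.mul_mem b.2 (D.G.inv_mem hxG)
    refine ⟨⟨y, hyG⟩, ⟨x, hxG⟩, Subtype.ext hbyx, (hPB _).2 hy, hx⟩
  have hXU : ∀ s : ↥P'.S, X s ⊆ U' := fun s x hx =>
    Subgroup.mem_subgroupOf.2 (Xset_subset_Usub _ hx)
  have hUn : ∀ b ∈ P'.B, ∀ u ∈ U', b⁻¹ * u * b ∈ U' := fun b hb u hu =>
    Subgroup.mem_subgroupOf.2 (conj_mem_Usub _ ((hPB b).1 hb) _ (Subgroup.mem_subgroupOf.1 hu))
  have hBUT : ∀ b ∈ P'.B, ∃ u ∈ U', ∃ t ∈ T', b = u * t := by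
    intro b hb
    obtain ⟨u, hu, t, ht, he⟩ := exists_Usub_mul_Tsub (b : OG m α β) ((hPB b).1 hb)
    exact ⟨⟨u, hBG (Usub_le_Bsub hu)⟩, Subgroup.mem_subgroupOf.2 hu,
      ⟨t, hBG (Tsub_le_Bsub ht)⟩, Subgroup.mem_subgroupOf.2 ht, Subtype.ext he⟩
  have hUT : ∀ g, g ∈ U' → g ∈ T' → g = 1 := fun g hu ht =>
    Subtype.ext (Usub_inf_Tsub _ (Subgroup.mem_subgroupOf.1 hu) (Subgroup.mem_subgroupOf.1 ht))
  have hUp : IsPGroup p U' := (Usub_isPGroup (m := m) (α := α) (β := β) p).comap_subtype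
  have hTp : ¬ p ∣ Nat.card T' := by
    have e : Nat.card T' = Nat.card (Tsub m α β) :=
      Nat.card_congr (Subgroup.subgroupOfEquivOfLe (Tsub_le_Bsub.trans hBG)).toEquiv
    rw [e]
    exact not_dvd_card_Tsub p hab
  have hmax : ∀ n ∈ P'.N, (∀ s : ↥P'.S, ¬ ∀ x ∈ X s, n * x * n⁻¹ ∈ P'.B) →
      ∀ u ∈ P'.B, (n⁻¹ * u * n ∈ P'.B ↔ u ∈ T') := by
    intro n hn hnot u hu
    have hnN : (n : OG m α β) ∈ Nsub m α β := (hPN n).1 hn
    have h1 : ∀ k : Fin m, ¬ ∀ x ∈ Xset α β k, (n : OG m α β) * x * (n : OG m α β)⁻¹ ∈ Bsub m α β := by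
      intro k hk
      obtain ⟨s, hs⟩ := hS k
      have hsS : s ∈ Sset m α β := ⟨k, hs⟩
      have hsG : s ∈ D.G := hNG (Sset_subset_Nsub hsS)
      let s' : ↥P'.S := ⟨⟨s, hsG⟩, hsS⟩
      have hkk : kOf s' = k := sMat_injective ((hkOf s').symm.trans hs)
      apply hnot s'
      intro x hx
      have hx' : (x : OG m α β) ∈ Xset α β k := by rw [← hkk]; exact hx
      exact (hPB _).2 (hk _ hx')
    have h2 := conj_mem_Bsub_iff_of_not (n : OG m α β) (Nsub_le_Mono1 hnN)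
      (fun t ht => (conj_mem_Tsub _ hnN t ht).2) h1 (u : OG m α β) ((hPB u).1 hu)
    rw [hPB]
    exact h2.trans Subgroup.mem_subgroupOf.symm
  obtain ⟨χ, hχ, hres, hsyl, -⟩ := steinberg_generic p P' U' T' X hUB hTB hdec hXU hUn hBUT hUT
    hUp hTp hmax
  have hQ : Nat.card Q = Nat.card U' := hsyl Q
  exact hQ.trans (Nat.card_congr (Subgroup.subgroupOfEquivOfLe (Usub_le_Bsub.trans hBG)).toEquiv)

end

end Cfsg.Agent.Helper5.OmBN.Syl
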