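import Mathlib
import Cfsg.Agent.Helper5.OmBN.Defs
import Cfsg.Agent.Helper48.OmBNSGMUL

/-!
# (COMSG) for S2549: the commutator of two Siegel elements is a root element of kind I (helper5)
-/

set_option autoImplicit false

namespace Cfsg.Agent.Helper5.OmBN.ComSG

open Matrix Cfsg.Agent.Helper5.OmBN

variable {F : Type*} [Field F] {m : ℕ} {α β : F}

theorem rev_ne_c1 (e : Fin (2 * m + 2)) (he2 : e ≠ c2) : Fin.rev e ≠ c1 :=
  fun h => he2 (by rw [← Fin.rev_rev e, h, rev_c1])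

theorem rev_ne_c2 (e : Fin (2 * m + 2)) (he1 : e ≠ c1) : Fin.rev e ≠ c2 :=
  fun h => he1 (by rw [← Fin.rev_rev e, h, rev_c2])

/-- the product of two Siegel elements at different positions -/
theorem sgMat_mul_sgMat (e f : Fin (2 * m + 2)) (he1 : e ≠ c1) (he2 : e ≠ c2) (hf1 : f ≠ c1)
    (hf2 : f ≠ c2) (hef' : e ≠ Fin.rev f) (z1 z2 v1 v2 : F) :
    sgMat α β e z1 z2 * sgMat α β f v1 v2 =
      sgMat α β e z1 z2 + sgMat α β f v1 v2 - 1 -
        (Nb α β z1 z2 v1 v2) • Matrix.single e (Fin.rev f) (1 : F) := by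
  have h1 : (c1 : Fin (2 * m + 2)) ≠ f := fun h => hf1 h.symm
  have h2 : (c2 : Fin (2 * m + 2)) ≠ f := fun h => hf2 h.symm
  have h12 : (c1 : Fin (2 * m + 2)) ≠ c2 := c1_ne_c2
  have h21 : (c2 : Fin (2 * m + 2)) ≠ c1 := fun h => c1_ne_c2 h.symm
  have hr : Fin.rev e ≠ f := fun h => hef' (by rw [← h, Fin.rev_rev])
  have hr1 : Fin.rev e ≠ c1 := rev_ne_c1 e he2
  have hr2 : Fin.rev e ≠ c2 := rev_ne_c2 e he1
  have z : ∀ (i j k l : Fin (2 * m + 2)) (c d : F), j ≠ k →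
      Matrix.single i j c * Matrix.single k l d = (0 : Matrix (Fin (2 * m + 2)) (Fin (2 * m + 2)) F) :=
    fun i j k l c d h => Matrix.single_mul_single_of_ne c i j k h d
  unfold sgMat
  simp only [add_mul, mul_add, sub_mul, mul_sub, Matrix.smul_mul, Matrix.mul_smul, one_mul, mul_one,
    Matrix.single_mul_single_same, z _ _ _ _ _ _ h1,
    z _ _ _ _ _ _ h2, z _ _ _ _ _ _ h12,
    z _ _ _ _ _ _ h21, z _ _ _ _ _ _ hr,
    z _ _ _ _ _ _ hr1, z _ _ _ _ _ _ hr2,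
    smul_zero, sub_zero, add_zero]
  unfold Nb Nf
  module

/-- a matrix unit whose column is not a row of the off-diagonal part of a Siegel element is fixed by it -/
theorem single_mul_sgMat (r s f : Fin (2 * m + 2)) (hs : s ≠ f) (hs1 : s ≠ c1) (hs2 : s ≠ c2)
    (v1 v2 : F) :
    Matrix.single r s (1 : F) * sgMat α β f v1 v2 = Matrix.single r s (1 : F) := by
  have z : ∀ (i j k l : Fin (2 * m + 2)) (c d : F), j ≠ k →
      Matrix.single i j c * Matrix.single k l d = (0 : Matrix (Fin (2 * m + 2)) (Fin (2 * m + 2)) F) :=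
    fun i j k l c d h => Matrix.single_mul_single_of_ne c i j k h d
  unfold sgMat
  simp only [mul_add, mul_sub, Matrix.mul_smul, mul_one, z _ _ _ _ _ _ hs, z _ _ _ _ _ _ hs1,
    z _ _ _ _ _ _ hs2, smul_zero, sub_zero, add_zero]

theorem Nb_comm' (z1 z2 v1 v2 : F) : Nb α β v1 v2 z1 z2 = Nb α β z1 z2 v1 v2 := by
  unfold Nb; ring

theorem Nb_neg_right (z1 z2 v1 v2 : F) : Nb α β z1 z2 (-v1) (-v2) = -Nb α β z1 z2 v1 v2 := by
  unfold Nb; ring

/-- (COMSG) the commutator of two Siegel elements is a root element of kind I -/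
theorem sgMat_comm (e f : Fin (2 * m + 2)) (he1 : e ≠ c1) (he2 : e ≠ c2) (hf1 : f ≠ c1) (hf2 : f ≠ c2)
    (hef : e ≠ f) (hef' : e ≠ Fin.rev f) (z1 z2 v1 v2 : F) :
    sgMat α β e z1 z2 * sgMat α β f v1 v2 * sgMat α β e (-z1) (-z2) * sgMat α β f (-v1) (-v2) =
      xMat e (Fin.rev f) (-(Nb α β z1 z2 v1 v2)) := by
  have hfe' : f ≠ Fin.rev e := fun h => hef' (by rw [h, Fin.rev_rev])
  -- the inverses
  have hAA : sgMat α β e z1 z2 * sgMat α β e (-z1) (-z2) = 1 := by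
    rw [Cfsg.Agent.Helper48.OmBN.sgMat_mul e he1 he2, add_neg_cancel, add_neg_cancel,
      Cfsg.Agent.Helper48.OmBN.sgMat_zero]
  have hBB : sgMat α β f v1 v2 * sgMat α β f (-v1) (-v2) = 1 := by
    rw [Cfsg.Agent.Helper48.OmBN.sgMat_mul f hf1 hf2, add_neg_cancel, add_neg_cancel,
      Cfsg.Agent.Helper48.OmBN.sgMat_zero]
  -- matrix units fixed by the Siegel elements
  have hE1 : Matrix.single e (Fin.rev f) (1 : F) * sgMat α β e (-z1) (-z2) =
      Matrix.single e (Fin.rev f) (1 : F) :=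
    single_mul_sgMat e (Fin.rev f) e (fun h => hef' h.symm) (rev_ne_c1 f hf2) (rev_ne_c2 f hf1) _ _
  have hE2 : Matrix.single e (Fin.rev f) (1 : F) * sgMat α β f (-v1) (-v2) =
      Matrix.single e (Fin.rev f) (1 : F) :=
    single_mul_sgMat e (Fin.rev f) f (Cfsg.Agent.Helper48.OmBN.rev_ne_self' f) (rev_ne_c1 f hf2)
      (rev_ne_c2 f hf1) _ _
  have hE3 : Matrix.single f (Fin.rev e) (1 : F) * sgMat α β f (-v1) (-v2) =
      Matrix.single f (Fin.rev e) (1 : F) :=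
    single_mul_sgMat f (Fin.rev e) f (fun h => hfe' h.symm) (rev_ne_c1 e he2) (rev_ne_c2 e he1) _ _
  -- the products of two factors
  have hAB := sgMat_mul_sgMat (α := α) (β := β) e f he1 he2 hf1 hf2 hef' z1 z2 v1 v2
  have hBA := sgMat_mul_sgMat (α := α) (β := β) f e hf1 hf2 he1 he2 hfe' v1 v2 (-z1) (-z2)
  rw [Nb_neg_right, Nb_comm'] at hBA
  -- first three factors
  have h3 : sgMat α β e z1 z2 * sgMat α β f v1 v2 * sgMat α β e (-z1) (-z2) =
      sgMat α β f v1 v2 + (Nb α β z1 z2 v1 v2) • Matrix.single f (Fin.rev e) (1 : F)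
        - (Nb α β z1 z2 v1 v2) • Matrix.single e (Fin.rev f) (1 : F) := by
    rw [hAB, sub_mul, sub_mul, add_mul, hAA, hBA, one_mul, Matrix.smul_mul, hE1]
    module
  rw [h3, sub_mul, add_mul, hBB, Matrix.smul_mul, Matrix.smul_mul, hE3, hE2]
  unfold xMat
  rw [Fin.rev_rev]
  module

end Cfsg.Agent.Helper5.OmBN.ComSG
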